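import Cfsg.Agent.Lib.R3.Setup

/-!
# Rank three groups with a Frobenius constituent: basic counting
-/

set_option autoImplicit false

namespace Cfsg.Agent.R3

open Subgroup MulAction

universe u v

variable {G : Type u} [Group G] [Fintype G] {X : Type v} [MulAction G X] [Fintype X]
  {adj : X → X → Prop} {k l c d lam mu : ℕ}

/-- number of conjugates of `s` mapping `x` to `y` -/
noncomputable def nc (s : G) (x y : X) : ℕ := cnt fun t : G => IsConj s t ∧ t • x = y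

omit [Fintype X] in
theorem nc_smul (s g : G) (x y : X) : nc s (g • x) (g • y) = nc s x y := by
  symm
  refine cnt_bij (fun t => g * t * g⁻¹) (fun t ht => ⟨ht.1.trans (isConj_iff.2 ⟨g, rfl⟩), ?_⟩)
    (fun _ _ _ _ e => by simpa using e) fun t ht => ⟨g⁻¹ * t * g,
      ⟨ht.1.trans (isConj_iff.2 ⟨g⁻¹, by simp⟩), ?_⟩, by group⟩
  · rw [conj_smul_smul, ht.2]
  · rw [mul_smul, mul_smul, ht.2, inv_smul_smul]

omit [Fintype G] [Fintype X] in
theorem sq_of_isConj {s t : G} (hs : s * s = 1) (h : IsConj s t) : t * t = 1 := by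
  obtain ⟨g, rfl⟩ := isConj_iff.1 h
  rw [conj_mul, hs]
  simp

omit [Fintype G] [Fintype X] in
theorem ne_one_of_isConj {s t : G} (hs : s ≠ 1) (h : IsConj s t) : t ≠ 1 := fun e =>
  hs (isConj_one_left.1 (e ▸ h))

omit [Fintype G] [Fintype X] in
theorem invol_smul {t : G} (ht : t * t = 1) (x : X) : t • t • x = x := by
  rw [← mul_smul, ht, one_smul]

omit [Fintype X] in
theorem nc_le {s : G} (hs : s * s = 1) (x y : X) : nc s x y ≤ Nat.card (st2 G x y) := by
  rcases Nat.eq_zero_or_pos (nc s x y) with h | h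
  · omega
  obtain ⟨t0, h0, h0'⟩ := cnt_pos.1 h
  rw [card_eq_cnt]
  refine cnt_le_of_inj (fun t => t0 * t) (fun t ht => ⟨?_, ?_⟩) fun _ _ _ _ e => mul_left_cancel e
  · change (t0 * t) • x = x
    rw [mul_smul, ht.2, ← h0', invol_smul (sq_of_isConj hs h0)]
  · change (t0 * t) • y = y
    rw [mul_smul, ← ht.2, invol_smul (sq_of_isConj hs ht.1), h0', ht.2]

theorem cls_mul_cnt (s : G) (R : X → X → Prop) (hR : ∀ (g : G) x y, R (g • x) (g • y) ↔ R x y)
    {m : ℕ} (hm : ∀ x, cnt (fun t : G => IsConj s t ∧ R x (t • x)) = m) :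
    cnt (IsConj s) * cnt (fun x => R x (s • x)) = Fintype.card X * m := by
  rw [← cnt_true]
  refine cnt_mul_eq (fun t x => R x (t • x)) (fun t ht => ?_) fun x _ => hm x
  obtain ⟨g, rfl⟩ := isConj_iff.1 ht
  exact (cnt_smul g fun x => by rw [conj_smul_smul, hR, true_and]).symm

theorem cnt_cls_eq (s : G) (x : X) (q : X → Prop) {n : ℕ} (hn : ∀ y, q y → nc s x y = n) :
    cnt (fun t : G => IsConj s t ∧ q (t • x)) = cnt q * n := by
  rw [← mul_one (cnt fun t : G => _)]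
  refine cnt_mul_eq (fun t y => t • x = y) (fun t ht => cnt_eq_one (t • x) fun y =>
    ⟨fun h => h.2.symm, fun e => ⟨e ▸ ht.2, e.symm⟩⟩) fun y hy => ?_
  rw [← hn y hy]
  exact cnt_congr fun t => ⟨fun h => ⟨h.1.1, h.2⟩, fun h => ⟨⟨h.1, h.2 ▸ hy⟩, h.2⟩⟩

namespace Par

variable (h : Par G adj k l c d lam mu)
include h

theorem two_le_c : 2 ≤ c := by
  obtain ⟨g, x, y, hg, hxy, h1, h2⟩ := h.nontriv
  rw [← h.hc hxy, card_eq_cnt]
  exact two_le_cnt hg ⟨h1, h2⟩ (one_mem _)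

omit [Fintype G] in
theorem exists_adj (x : X) : ∃ y, adj x y := by
  obtain ⟨-, a, b, -, hab, -⟩ := h.nontriv
  obtain ⟨g, rfl⟩ := h.tr0 a x
  exact ⟨_, h.smul g hab⟩

omit [Fintype G] in
theorem exists_far (x : X) : ∃ y, x ≠ y ∧ ¬ adj x y := by
  obtain ⟨a, b, hab, hab'⟩ := h.exfar
  obtain ⟨g, rfl⟩ := h.tr0 a x
  exact ⟨g • b, fun e => hab (MulAction.injective g e), fun e => hab' ((h.smul_iff g).1 e)⟩

omit [Fintype G] in
theorem nonempty : Nonempty X := let ⟨a, _⟩ := h.exfar; ⟨a⟩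

omit [Fintype G] in
theorem k_pos : 0 < k := by
  obtain ⟨x⟩ := h.nonempty
  exact h.hk x ▸ cnt_pos.2 (h.exists_adj x)

omit [Fintype G] in
theorem l_pos : 0 < l := by
  obtain ⟨x⟩ := h.nonempty
  obtain ⟨y, hy, hy'⟩ := h.exists_far x
  exact h.hl x ▸ cnt_pos.2 ⟨y, hy.symm, hy'⟩

theorem d_pos : 0 < d := by
  obtain ⟨x, y, hy, hy'⟩ := h.exfar
  exact h.hd hy hy' ▸ Nat.card_pos

omit [Fintype G] in
theorem cnt_three (x : X) (p : X → Prop) : cnt p = cnt (fun y => p y ∧ y = x) +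
    cnt (fun y => p y ∧ adj x y) + cnt (fun y => p y ∧ y ≠ x ∧ ¬ adj x y) := by
  rw [cnt_split p (· = x), cnt_split (fun y => p y ∧ ¬ y = x) (adj x), add_assoc]
  congr 2
  · exact cnt_congr fun y => ⟨fun h => ⟨h.1.1, h.2⟩, fun h1 => ⟨⟨h1.1, (h.ne h1.2).symm⟩, h1.2⟩⟩
  · exact cnt_congr fun y => and_assoc

omit [Fintype G] in
theorem card_X : Fintype.card X = 1 + k + l := by
  obtain ⟨x⟩ := h.nonempty
  rw [← cnt_true, h.cnt_three x, cnt_eq_one x (by simp), ← h.hk x, ← h.hl x]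
  simp

theorem card_G : Nat.card G = Fintype.card X * (k * c) := by
  obtain ⟨x⟩ := h.nonempty
  have := cnt_orbit_mul (fun (g : G) (y : X) => g • y) (one_smul G) mul_smul ⊤ x
  rw [card_top] at this
  rw [← this, ← h.hst x, card_eq_cnt, ← cnt_true]
  congr 1
  · exact cnt_congr fun y => by simpa using h.tr0 x y
  · exact cnt_congr fun g => by simp

theorem card_ker (x : X) : Nat.card (h.ker x) = k := by
  have h1 := h.hst x
  rw [card_eq_cnt, cnt_split _ (· ∈ h.ker x)] at h1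
  have h2 : cnt (fun g => g ∈ stabilizer G x ∧ g ∉ h.ker x) * 1 = cnt (adj x) * (c - 1) := by
    refine cnt_mul_eq (fun g y => g • y = y) (fun g hg => ?_) fun y hy => ?_
    · obtain ⟨y, hy, e⟩ := h.exists_fix hg.1 hg.2
      refine cnt_eq_one y fun z => ⟨fun hz => ?_, fun e1 => e1 ▸ ⟨hy, e⟩⟩
      by_contra hne
      exact hg.2 (h.semi hz.1 hy hne hg.1 hz.2 e ▸ one_mem _)
    · have := h.hc hy
      rw [card_eq_cnt, cnt_erase (one_mem _)] at this
      refine Eq.trans ?_ (show _ = c - 1 from Nat.eq_sub_of_add_eq this)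
      exact cnt_congr fun g => ⟨fun hg => ⟨⟨hg.1.1, hg.2⟩, fun e => hg.1.2 (e ▸ one_mem _)⟩,
        fun hg => ⟨⟨hg.1.1, fun e => hg.2 (h.ker_eq_one e hy hg.1.2)⟩, hg.1.2⟩⟩
  have h3 : cnt (fun g => g ∈ stabilizer G x ∧ g ∈ h.ker x) = Nat.card (h.ker x) := by
    rw [card_eq_cnt]
    exact cnt_congr fun g => ⟨fun h => h.2, fun h => ⟨h.1, h⟩⟩
  rw [mul_one, show cnt (adj x) = k from h.hk x] at h2
  rw [h2, h3] at h1
  obtain ⟨c', rfl⟩ : ∃ c', c = c' + 1 := ⟨c - 1, by have := h.two_le_c; omega⟩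
  rw [Nat.add_sub_cancel, mul_add] at h1
  omega

theorem ker_trans {x y z : X} (hy : adj x y) (hz : adj x z) : ∃ a ∈ h.ker x, a • y = z :=
  surj_of_cnt_le (p := (· ∈ h.ker x)) (q := adj x) (fun a => a • y)
    (fun a ha => by simpa [ha.1] using h.smul a hy)
    (fun a b ha hb e => (inv_mul_eq_one.1 (h.ker_eq_one (mul_mem (inv_mem ha) hb) hy (by
      rw [mul_smul, ← show a • y = b • y from e, inv_smul_smul]))))
    (by rw [← card_eq_cnt, h.card_ker, show cnt (adj x) = k from h.hk x]) z hz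

omit [Fintype G] in
theorem dvd_of_semi {x y : X} (S : Subgroup G) (hS : ∀ g ∈ S, g • x = x ∧ g • y = y)
    (hy : adj x y) (p : X → Prop) (hp : ∀ z, p z → adj x z ∧ z ≠ y)
    (hinv : ∀ g ∈ S, ∀ z, p z → p (g • z)) : Nat.card S ∣ cnt p :=
  dvd_cnt_of_semireg (fun (g : G) (y : X) => g • y) (one_smul G) mul_smul S p hinv
    fun g hg z hz e => h.semi hy (hp z hz).1 (hp z hz).2.symm (hS g hg).1 (hS g hg).2 e

omit [Fintype G] in
theorem exists_am : ∃ a m, lam = c * a ∧ k = 1 + c * a + c * m := by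
  obtain ⟨x⟩ := h.nonempty
  obtain ⟨y, hy⟩ := h.exists_adj x
  obtain ⟨a, ha⟩ := h.dvd_of_semi (st2 G x y) (fun g hg => hg) hy (fun z => adj x z ∧ adj y z)
    (fun z hz => ⟨hz.1, (h.ne hz.2).symm⟩) fun g hg z hz =>
      ⟨by simpa [show g • x = x from hg.1] using h.smul g hz.1,
        by simpa [show g • y = y from hg.2] using h.smul g hz.2⟩
  obtain ⟨m, hm⟩ := h.dvd_of_semi (st2 G x y) (fun g hg => hg) hy
    (fun z => adj x z ∧ z ≠ y ∧ ¬ adj y z)
    (fun z hz => ⟨hz.1, hz.2.1⟩) fun g hg z hz =>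
      ⟨by simpa [show g • x = x from hg.1] using h.smul g hz.1,
        fun e => hz.2.1 (MulAction.injective g (e.trans hg.2.symm)),
        fun e => hz.2.2 ((h.smul_iff g).1 (by rwa [show g • y = y from hg.2]))⟩
  rw [h.hc hy] at ha hm
  refine ⟨a, m, by rw [← ha, h.hlam hy], ?_⟩
  rw [← h.hk x, h.cnt_three y, ← ha, ← hm, cnt_eq_one y fun z => ⟨fun h => h.2, fun e => ⟨e ▸ hy, e⟩⟩]

omit [Fintype G] in
theorem coprime_kc : Nat.Coprime k c := by
  obtain ⟨a, m, -, hk⟩ := h.exists_am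
  rw [hk, add_assoc, ← mul_add, Nat.coprime_add_mul_left_left]
  simp

omit [Fintype G] in
theorem d_dvd_mu : d ∣ mu := by
  obtain ⟨x, y, hy, hy'⟩ := h.exfar
  rw [← h.hd hy hy', ← h.hmu hy hy']
  exact dvd_cnt_of_semireg (fun (g : G) (y : X) => g • y) (one_smul G) mul_smul _ _
    (fun g hg z hz => ⟨by simpa [show g • x = x from hg.1] using h.smul g hz.1,
        by simpa [show g • y = y from hg.2] using h.smul g hz.2⟩)
    fun g hg z hz e => h.semi (h.symm hz.1) (h.symm hz.2) hy e hg.1 hg.2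

theorem pow_k {x : X} {g : G} (hg : g ∈ h.ker x) : g ^ k = 1 := by
  have := pow_card_eq_one' (G := h.ker x) (x := ⟨g, hg⟩)
  rw [h.card_ker] at this
  exact congrArg Subtype.val this

theorem pow_c {x y : X} {g : G} (hy : adj x y) (h1 : g • x = x) (h2 : g • y = y) : g ^ c = 1 := by
  have := pow_card_eq_one' (G := st2 G x y) (x := ⟨g, h1, h2⟩)
  rw [h.hc hy] at this
  exact congrArg Subtype.val this

theorem not_adj_of_ker {x y z : X} {g : G} (hg : g ∈ h.ker x) (h1 : g ≠ 1) (hy : g • y = y)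
    (hz : g • z = z) : ¬ adj y z := fun e =>
  h1 (eq_one_of_pow_of_pow h.coprime_kc (h.pow_k hg) (h.pow_c e hy hz))

theorem ker_of_fix {x y : X} {g : G} (hg : g ∈ h.ker x) (hy : g • y = y) : g ∈ h.ker y :=
  ⟨hy, or_iff_not_imp_left.2 fun h1 _ hz e => h.not_adj_of_ker hg h1 hy e hz⟩

omit [Fintype G] in
theorem param : k * k = k + k * lam + l * mu := by
  classical
  obtain ⟨x⟩ := h.nonempty
  have h1 := sum_cnt_comm (fun _ => True) (adj x) (fun y z => adj y z)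
  rw [sum_ite_const (p := adj x) (m := k) (fun z _ => by
    rw [← h.hk z]
    exact cnt_congr fun y => ⟨fun e => h.symm e.2, fun e => ⟨trivial, h.symm e⟩⟩),
    show cnt (adj x) = k from h.hk x, sum_ite_split _ (· = x),
    sum_ite_split (fun y => True ∧ ¬ y = x) (adj x)] at h1
  rw [← h1, sum_ite_const (m := k), sum_ite_const (m := lam), sum_ite_const (m := mu),
    cnt_eq_one x (by simp), ← h.hk x, ← h.hl x, one_mul, add_assoc]
  · congr 3
    · exact cnt_congr fun y => ⟨fun e => e.2, fun e => ⟨⟨trivial, (h.ne e).symm⟩, e⟩⟩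
    · exact cnt_congr fun y => ⟨fun e => ⟨e.1.2, e.2⟩, fun e => ⟨⟨trivial, e.1⟩, e.2⟩⟩
  · exact fun y hy => h.hmu (Ne.symm hy.1.2) hy.2
  · exact fun y hy => h.hlam hy.2
  · rintro _ ⟨-, rfl⟩
    rw [← h.hk]
    exact cnt_congr fun _ => and_self_iff

omit [Fintype G] in
theorem mu_lt : mu < k := by
  obtain ⟨x, y, hy, hy'⟩ := h.exfar
  obtain ⟨z, hz, hz'⟩ := h.prim hy hy'
  rw [← h.hk y, cnt_split _ (adj x), ← h.hmu hy hy', cnt_congr fun z => and_comm]
  exact Nat.lt_add_of_pos_right (cnt_pos.2 ⟨z, hz, hz'⟩)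

theorem mu_eq {a m : ℕ} (ha : lam = c * a) (hk : k = 1 + c * a + c * m) : mu = d * m := by
  have h1 := h.param
  have h2 := h.hld
  apply Nat.eq_of_mul_eq_mul_left h.l_pos
  rw [← mul_assoc, h2, mul_assoc]
  conv_lhs at h1 => rw [← mul_one k, mul_assoc, one_mul]; arg 2; rw [hk]
  rw [ha] at h1
  nlinarith

theorem nilpotent (x : X) : Group.IsNilpotent (h.ker x) := by
  obtain ⟨y, hy⟩ := h.exists_adj x
  obtain ⟨q, hq, hqc⟩ := Nat.exists_prime_and_dvd (n := c) (by have := h.two_le_c; omega)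
  have := Fact.mk hq
  obtain ⟨g, hg⟩ := exists_prime_orderOf_dvd_card' (G := st2 G x y) q (by rwa [h.hc hy])
  have hn : (g : G) ∈ normalizer (h.ker x : Set G) :=
    mem_normalizer_fintype fun a ha => h.conj_mem' ha g.2.1
  refine fpf_nilpotent (q := q) (u := (h.ker x).normalizerMonoidHom ⟨g, hn⟩) ?_ fun a ha => ?_
  · rw [← map_pow, show (⟨g, hn⟩ : normalizer (h.ker x : Set G)) ^ q = 1 from Subtype.ext (by
      have := pow_orderOf_eq_one g
      rw [hg] at this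
      exact congrArg (fun t : st2 G x y => (t : G)) this), map_one]
  · by_contra hne
    have h1 : (g : G) * a * (g : G)⁻¹ = a := congrArg Subtype.val ha
    have h2 := h.ker_eq_one (h.mem_ker_of_comm a.2 (fun e => hne (Subtype.ext e)) g.2.1
      (mul_inv_eq_iff_eq_mul.1 h1)) hy g.2.2
    rw [show g = 1 from Subtype.ext h2, orderOf_one] at hg
    exact hq.one_lt.ne hg

theorem nc_eq0 (s : G) (x y : X) : nc s x x = nc s y y := by
  obtain ⟨g, rfl⟩ := h.tr0 x y
  exact (nc_smul s g x x).symm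

theorem nc_eq1 (s : G) {x y x' y' : X} (h1 : adj x y) (h2 : adj x' y') :
    nc s x y = nc s x' y' := by
  obtain ⟨g, rfl, rfl⟩ := h.tr1 h1 h2
  exact (nc_smul s g x y).symm

theorem nc_eq2 (s : G) {x y x' y' : X} (h1 : x ≠ y) (h1' : ¬ adj x y) (h2 : x' ≠ y')
    (h2' : ¬ adj x' y') : nc s x y = nc s x' y' := by
  obtain ⟨g, rfl, rfl⟩ := h.tr2 h1 h1' h2 h2'
  exact (nc_smul s g x y).symm

theorem cls_eq (s : G) {a b p : X} (hb : adj a b) (hp : a ≠ p) (hp' : ¬ adj a p) :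
    cnt (IsConj s) = nc s a a + k * nc s a b + l * nc s a p := by
  rw [← h.hk a, ← h.hl a, ← cnt_cls_eq s a _ fun y hy => h.nc_eq1 s hy hb,
    ← cnt_cls_eq s a _ fun y hy => h.nc_eq2 s hy.1.symm hy.2 hp hp',
    cnt_split (IsConj s) (fun t => t • a = a),
    cnt_split (fun t => IsConj s t ∧ ¬ t • a = a) (fun t => adj a (t • a)), add_assoc]
  congr 2
  · exact cnt_congr fun t => ⟨fun e => ⟨e.1.1, e.2⟩, fun e => ⟨⟨e.1, (h.ne e.2).symm⟩, e.2⟩⟩
  · exact cnt_congr fun t => and_assoc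

theorem cls_fix (s : G) (a : X) :
    cnt (IsConj s) * cnt (fun x : X => s • x = x) = Fintype.card X * nc s a a :=
  cls_mul_cnt s (fun x y => y = x) (fun g x y => smul_left_cancel_iff g) fun x => h.nc_eq0 s x a

theorem cls_adj (s : G) {a b : X} (hb : adj a b) :
    cnt (IsConj s) * cnt (fun x : X => adj x (s • x)) = Fintype.card X * (k * nc s a b) :=
  cls_mul_cnt s adj (fun g _ _ => h.smul_iff g) fun x => by
    rw [cnt_cls_eq s x _ fun y hy => h.nc_eq1 s hy hb, show cnt (adj x) = k from h.hk x]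

theorem exists_adj_far (a : X) : ∃ p p', a ≠ p ∧ ¬ adj a p ∧ a ≠ p' ∧ ¬ adj a p' ∧ adj p p' := by
  obtain ⟨p, hp, hp'⟩ := h.exists_far a
  obtain ⟨z, hz, hz'⟩ := h.prim hp hp'
  exact ⟨p, z, hp, hp', fun e => hp' (h.symm (e ▸ hz)), hz', hz⟩

end Par

end Cfsg.Agent.R3
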