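import Mathlib

/-!
# Integrality condition for strongly regular graphs
-/

set_option autoImplicit false

namespace Cfsg.Agent.R3

open Finset Matrix

theorem trace_idem_nat {X : Type*} [Fintype X] [DecidableEq X] (E : Matrix X X ℝ)
    (h : E * E = E) : ∃ n : ℕ, E.trace = n := by
  have h1 : IsIdempotentElem (Matrix.toLin' E) := by
    change _ * _ = _
    rw [Module.End.mul_eq_comp, ← Matrix.toLin'_mul, h]
  refine ⟨Module.finrank ℝ (LinearMap.range (Matrix.toLin' E)), ?_⟩
  rw [← ((LinearMap.isProj_range_iff_isIdempotentElem _).2 h1).trace, Matrix.trace_toLin'_eq]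

theorem srg_integral {X : Type*} [Fintype X] [DecidableEq X] (adj : X → X → Prop)
    [DecidableRel adj] (hsymm : ∀ x y, adj x y → adj y x) (hirr : ∀ x, ¬ adj x x)
    {k l m : ℕ} (hk : ∀ x, (univ.filter fun z => adj x z).card = k)
    (hl : ∀ x y, adj x y → (univ.filter fun z => adj x z ∧ adj y z).card = l)
    (hm : ∀ x y, x ≠ y → ¬ adj x y → (univ.filter fun z => adj x z ∧ adj y z).card = m)
    (hmk : m < k) (hv : 0 < Fintype.card X)
    (hpar : (k : ℤ) * k = k + l * k + m * (Fintype.card X - 1 - k))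
    (hT : (2 * k + (Fintype.card X - 1) * (l - m) : ℤ) ≠ 0) :
    ∃ s : ℤ, s ^ 2 = (l - m) ^ 2 + 4 * (k - m) ∧ s ∣ 2 * k + (Fintype.card X - 1) * (l - m) := by
  let A : Matrix X X ℝ := of fun x y => if adj x y then 1 else 0
  let J : Matrix X X ℝ := of fun _ _ => 1
  set v := Fintype.card X with hvdef
  have hAA : A * A = (k : ℝ) • (1 : Matrix X X ℝ) + (l : ℝ) • A + (m : ℝ) • (J - 1 - A) := by
    ext x y
    have e : (A * A) x y = (univ.filter fun z => adj x z ∧ adj y z).card := by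
      rw [mul_apply, card_filter]
      push_cast
      refine sum_congr rfl fun z _ => ?_
      simp only [A, of_apply]
      by_cases h1 : adj x z <;> by_cases h2 : adj y z <;>
        simp [h1, h2, show adj z y ↔ adj y z from ⟨hsymm _ _, hsymm _ _⟩]
    rw [e]
    by_cases hxy : x = y
    · subst hxy
      simp [A, J, hirr, hk]
    · by_cases ha : adj x y
      · simp [A, J, hxy, ha, hl x y ha]
      · simp [A, J, hxy, ha, hm x y hxy ha]
  have hAJ : A * J = (k : ℝ) • J := by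
    ext x y
    simp only [mul_apply, A, J, of_apply, mul_one, Matrix.smul_apply, smul_eq_mul, ← hk x, card_filter]
    push_cast
    rfl
  have hJA : J * A = (k : ℝ) • J := by
    ext x y
    simp only [mul_apply, A, J, of_apply, one_mul, mul_one, Matrix.smul_apply, smul_eq_mul, ← hk y,
      card_filter]
    push_cast
    exact sum_congr rfl fun z _ => by
      simp [show adj z y ↔ adj y z from ⟨hsymm _ _, hsymm _ _⟩]
  have hJJ : J * J = (v : ℝ) • J := by
    ext x y
    simp [mul_apply, J, hvdef]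
  have hD : (0 : ℝ) < (l - m) ^ 2 + 4 * (k - m) := by
    have : (m : ℝ) < k := by exact_mod_cast hmk
    positivity
  set δ := Real.sqrt ((l - m) ^ 2 + 4 * (k - m)) with hδ
  have hδ0 : δ ≠ 0 := (Real.sqrt_pos.2 hD).ne'
  have hδ2 : δ ^ 2 = (l - m) ^ 2 + 4 * (k - m) := Real.sq_sqrt hD.le
  have hv0 : (v : ℝ) ≠ 0 := by exact_mod_cast hv.ne'
  have hpar' : (k : ℝ) * k = k + l * k + m * (v - 1 - k) := by exact_mod_cast hpar
  obtain ⟨b, hb⟩ : ∃ b : ℝ, b * δ = 1 := ⟨δ⁻¹, inv_mul_cancel₀ hδ0⟩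
  obtain ⟨a, ha⟩ : ∃ a : ℝ, 2 * a + b * (l - m) = 1 := ⟨(1 - b * (l - m)) / 2, by ring⟩
  obtain ⟨c, hc⟩ : ∃ c : ℝ, c * v = -(a + b * k) := ⟨-(a + b * k) / v, by field_simp⟩
  have e1 : a * a + b * b * (k - m) = a := by
    have : (b * δ) ^ 2 = 1 := by rw [hb]; ring
    rw [mul_pow, hδ2] at this
    linear_combination (1 / 4) * this + (a / 2 - 1 / 4 - b * (l - m) / 4) * ha
  have e3 : 2 * a * c + b * b * m + 2 * b * c * k + c * c * v = c := by
    apply mul_right_cancel₀ hv0
    linear_combination (2 * a + 2 * b * k + c * v - 1 - (a + b * k)) * hc - e1 - b * k * ha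
      - b * b * hpar'
  obtain ⟨n, hn⟩ := trace_idem_nat (a • (1 : Matrix X X ℝ) + b • A + c • J) (by
    simp only [add_mul, mul_add, smul_mul_assoc, mul_smul_comm, one_mul, mul_one, hAA, hAJ, hJA,
      hJJ, smul_add, smul_sub, smul_smul]
    ext x y
    simp only [Matrix.add_apply, Matrix.sub_apply, Matrix.smul_apply, smul_eq_mul]
    linear_combination (1 : Matrix X X ℝ) x y * e1 + A x y * b * ha + J x y * e3)
  have htr : (a • (1 : Matrix X X ℝ) + b • A + c • J).trace = a * v + c * v := by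
    simp [trace_add, trace_smul, A, J, trace, hirr, hvdef, sum_add_distrib, mul_comm]
  rw [htr, hc] at hn
  have hj : ((2 * k + (v - 1) * (l - m) : ℤ) : ℝ) = δ * ((v - 1 - 2 * n : ℤ) : ℝ) := by
    push_cast
    linear_combination (-(2 * k + (v - 1) * (l - m))) * hb + δ * (v - 1) * ha - 2 * δ * hn
  set T : ℤ := 2 * k + (v - 1) * (l - m) with hTdef
  set j : ℤ := v - 1 - 2 * n with hjdef
  have h2 : T ^ 2 = ((l - m) ^ 2 + 4 * (k - m)) * j ^ 2 := by
    have : ((T : ℝ)) ^ 2 = ((l - m) ^ 2 + 4 * (k - m)) * (j : ℝ) ^ 2 := by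
      rw [hj, mul_pow, hδ2]
    exact_mod_cast this
  have hj0 : j ≠ 0 := fun h => hT (by simpa [h] using h2)
  obtain ⟨s, hs⟩ : j ∣ T := (Int.pow_dvd_pow_iff two_ne_zero).1 ⟨_, h2.trans (mul_comm _ _)⟩
  refine ⟨s, ?_, hs ▸ dvd_mul_left _ _⟩
  rw [hs, mul_pow, mul_comm] at h2
  exact mul_right_cancel₀ (pow_ne_zero 2 hj0) h2

end Cfsg.Agent.R3
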