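import Cfsg.Agent.Lib.R3.CaseB2
import Cfsg.Agent.Lib.R3.Eigen

/-!
# Rank three groups with a Frobenius constituent: complement of even order, basics
-/

set_option autoImplicit false

namespace Cfsg.Agent.R3

open Subgroup MulAction

universe u v

/-- involutions -/
def Iv {G : Type u} [Group G] (z : G) : Prop := z * z = 1 ∧ z ≠ 1

theorem Iv.inv {G : Type u} [Group G] {z : G} (h : Iv z) : z⁻¹ = z :=
  inv_eq_of_mul_eq_one_right h.1

theorem Iv.conj {G : Type u} [Group G] {z t : G} (h : Iv z) (ht : IsConj z t) : Iv t :=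
  ⟨sq_of_isConj h.1 ht, ne_one_of_isConj h.2 ht⟩

theorem Iv.conj' {G : Type u} [Group G] {z : G} (h : Iv z) (g : G) : Iv (g * z * g⁻¹) :=
  h.conj (isConj_iff.2 ⟨g, rfl⟩)

theorem exists_iv {G : Type u} [Group G] [Finite G] {S : Subgroup G} (h : Even (Nat.card S)) :
    ∃ z ∈ S, Iv z := by
  obtain ⟨g, hg⟩ := exists_prime_orderOf_dvd_card' (G := S) 2 h.two_dvd
  refine ⟨g, g.2, ?_, fun e => ?_⟩
  · have := pow_orderOf_eq_one g
    rw [hg, pow_two] at this
    exact congrArg (fun t : S => (t : G)) this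
  · rw [show g = 1 from Subtype.ext e, orderOf_one] at hg
    omega

theorem even_of_iv {G : Type u} [Group G] {S : Subgroup G} {z : G} (hz : Iv z) (h : z ∈ S) :
    Even (Nat.card S) := by
  have := S.orderOf_dvd_natCard h
  rw [orderOf_eq_prime (p := 2) (by rw [pow_two, hz.1]) hz.2] at this
  exact even_iff_two_dvd.2 this

variable {G : Type u} [Group G] [Fintype G] {X : Type v} [MulAction G X] [Fintype X]
  {adj : X → X → Prop} {k l c d lam mu : ℕ}

omit [Fintype G] in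
theorem Par.srg (h : Par G adj k l c d lam mu) (hT : (2 * k + (k + l) * (lam - mu) : ℤ) ≠ 0) :
    ∃ s : ℤ, s ^ 2 = (lam - mu) ^ 2 + 4 * (k - mu) ∧ s ∣ 2 * k + (k + l) * (lam - mu) := by
  classical
  have hv : (Fintype.card X - 1 : ℤ) = k + l := by
    rw [h.card_X]
    push_cast
    ring
  have := srg_integral adj (fun _ _ => h.symm) h.irr (k := k) (l := lam) (m := mu)
    (fun x => (cnt_eq _).symm.trans (h.hk x)) (fun x y e => (cnt_eq _).symm.trans (h.hlam e))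
    (fun x y e e' => (cnt_eq _).symm.trans (h.hmu e e')) h.mu_lt (by rw [h.card_X]; omega)
    (by
      rw [hv]
      have := congrArg (fun n : ℕ => (n : ℤ)) h.param
      push_cast at this
      linarith)
    (by rwa [hv])
  rwa [hv] at this

/-- The setting when the complement has even order. -/
structure PA (G : Type u) [Group G] {X : Type v} [MulAction G X] [Fintype X] (adj : X → X → Prop)
    (k l c d lam mu : ℕ) : Prop extends Par G adj k l c d lam mu where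
  ev : Even c
  mupos : 0 < mu

namespace PA

variable (h : PA G adj k l c d lam mu)
include h

omit [Fintype G] in
theorem odd_k : Odd k := by
  obtain ⟨a, m, -, hk⟩ := h.exists_am
  rw [hk, add_assoc, ← mul_add]
  exact odd_one.add_even (h.ev.mul_right _)

omit [Fintype G] in
theorem three_le_k : 3 ≤ k := by
  have := h.mu_lt
  have := h.mupos
  have := h.odd_k
  rw [Nat.odd_iff] at this
  omega

theorem exists_iv_adj {a b : X} (hb : adj a b) : ∃ z : G, Iv z ∧ z • a = a ∧ z • b = b := by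
  obtain ⟨z, hz, hz'⟩ := exists_iv (S := st2 G a b) (by rw [h.hc hb]; exact h.ev)
  exact ⟨z, hz', hz⟩

theorem eq_one_of_sq {a : X} {x : G} (hx : x ∈ h.ker a) (h2 : x * x = 1) : x = 1 :=
  eq_one_of_pow_of_pow (Nat.coprime_two_left.2 h.odd_k) (by rw [pow_two, h2]) (h.pow_k hx)

theorem not_ker {a : X} {z : G} (hz : Iv z) : z ∉ h.ker a := fun e => hz.2 (h.eq_one_of_sq e hz.1)

theorem exists_nbr {a : X} {z : G} (hz : Iv z) (ha : z • a = a) : ∃ b, adj a b ∧ z • b = b :=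
  h.exists_fix ha (h.not_ker hz)

theorem nbr_unique {a b b' : X} {z : G} (hz : z ≠ 1) (ha : z • a = a) (hb : adj a b)
    (hb' : adj a b') (e : z • b = b) (e' : z • b' = b') : b = b' := by
  by_contra hne
  exact hz (h.semi hb hb' hne ha e e')

theorem comm_surj {a : X} {g : G} (hg : g • a = a) (hg' : g ∉ h.ker a) {S : Subgroup G}
    (hS : S ≤ h.ker a) (hn : ∀ y ∈ S, g * y * g⁻¹ ∈ S) {x : G} (hx : x ∈ S) :
    ∃ y ∈ S, y⁻¹ * (g * y * g⁻¹) = x :=
  surj_of_cnt_le (p := (· ∈ S)) (q := (· ∈ S)) (fun y => y⁻¹ * (g * y * g⁻¹))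
    (fun y hy => mul_mem (inv_mem hy) (hn y hy)) (fun y y' hy hy' e => by
      by_contra hne
      refine hg' (h.mem_ker_of_comm (hS (mul_mem hy (inv_mem hy')))
        (fun e => hne (mul_inv_eq_one.1 e)) hg ?_)
      calc g * (y * y'⁻¹) = y * (y⁻¹ * (g * y * g⁻¹)) * (g * y'⁻¹) := by group
        _ = _ := by rw [show y⁻¹ * (g * y * g⁻¹) = y'⁻¹ * (g * y' * g⁻¹) from e]; group)
    le_rfl x hx

theorem inv_ker {a : X} {z x : G} (hz : Iv z) (ha : z • a = a) (hx : x ∈ h.ker a) :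
    z * x * z = x⁻¹ := by
  obtain ⟨y, -, rfl⟩ := h.comm_surj ha (h.not_ker hz) le_rfl (fun y hy => h.conj_mem' hy ha) hx
  rw [hz.inv]
  calc z * (y⁻¹ * (z * y * z)) * z = z * y⁻¹ * z * y * (z * z) := by group
    _ = z⁻¹ * y⁻¹ * z⁻¹ * y := by rw [hz.1, mul_one, hz.inv]
    _ = _ := by group

theorem iv_mul {a : X} {z x : G} (hz : Iv z) (ha : z • a = a) (hx : x ∈ h.ker a) :
    z * x = x⁻¹ * z := by
  rw [← h.inv_ker hz ha hx, mul_assoc, hz.1, mul_one]

theorem exists_iv_fix (a : X) : ∃ z : G, Iv z ∧ z • a = a := by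
  obtain ⟨b, hb⟩ := h.exists_adj a
  obtain ⟨z, hz, ha, -⟩ := h.exists_iv_adj hb
  exact ⟨z, hz, ha⟩

theorem ker_comm {a : X} {x y : G} (hx : x ∈ h.ker a) (hy : y ∈ h.ker a) : x * y = y * x := by
  obtain ⟨z, hz, ha⟩ := h.exists_iv_fix a
  rw [← inv_inj, ← h.inv_ker hz ha (mul_mem hx hy), mul_inv_rev, ← h.inv_ker hz ha hx,
    ← h.inv_ker hz ha hy]
  calc z * (x * y) * z = z * x * (z * z) * y * z := by rw [hz.1]; group
    _ = _ := by group

theorem exists_ker_ne_one (a : X) : ∃ x ∈ h.ker a, x ≠ 1 := by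
  refine (h.ker a).bot_or_exists_ne_one.resolve_left fun e => ?_
  have := h.card_ker a
  rw [e, card_bot] at this
  have := h.three_le_k
  omega

theorem mul_ker {a : X} {z z' : G} (hz : Iv z) (ha : z • a = a) (hz' : Iv z') (ha' : z' • a = a) :
    z * z' ∈ h.ker a := by
  obtain ⟨x, hx, hx1⟩ := h.exists_ker_ne_one a
  refine h.mem_ker_of_comm hx hx1 (by rw [mul_smul, ha', ha]) ?_
  rw [mul_assoc, h.iv_mul hz' ha' hx, ← mul_assoc, h.iv_mul hz ha (inv_mem hx), inv_inv, mul_assoc]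

theorem iv_unique {a b : X} (hb : adj a b) {z z' : G} (hz : Iv z) (ha : z • a = a) (e : z • b = b)
    (hz' : Iv z') (ha' : z' • a = a) (e' : z' • b = b) : z = z' := by
  have := h.ker_eq_one (h.mul_ker hz ha hz' ha') hb (by rw [mul_smul, e', e])
  rw [eq_inv_of_mul_eq_one_left this, hz'.inv]

theorem iv_ker_mul {a : X} {z x : G} (hz : Iv z) (ha : z • a = a) (hx : x ∈ h.ker a) :
    Iv (x * z) := by
  refine ⟨?_, fun e => h.not_ker (a := a) hz ?_⟩
  · rw [mul_assoc, ← mul_assoc z, h.inv_ker hz ha hx, mul_inv_cancel]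
  · rw [eq_inv_of_mul_eq_one_right e]
    exact inv_mem hx

theorem sq_inj {a : X} {x y : G} (hx : x ∈ h.ker a) (hy : y ∈ h.ker a) (e : x * x = y * y) :
    x = y := by
  refine mul_inv_eq_one.1 (h.eq_one_of_sq (mul_mem hx (inv_mem hy)) ?_)
  calc x * y⁻¹ * (x * y⁻¹) = x * (y⁻¹ * x) * y⁻¹ := by group
    _ = x * x * (y * y)⁻¹ := by rw [h.ker_comm (inv_mem hy) hx]; group
    _ = 1 := by rw [e, mul_inv_cancel]

theorem exists_sqrt {a : X} {S : Subgroup G} (hS : S ≤ h.ker a) {x : G} (hx : x ∈ S) :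
    ∃ w ∈ S, w * w = x :=
  surj_of_cnt_le (p := (· ∈ S)) (q := (· ∈ S)) (fun y => y * y)
    (fun _ hy => mul_mem hy hy) (fun _ _ hy hy' e => h.sq_inj (hS hy) (hS hy') e) le_rfl x hx

theorem fix_of_sq {a p : X} {x : G} (hx : x ∈ h.ker a) (e : (x * x) • p = p) : x • p = p := by
  obtain ⟨w, hw, hw'⟩ := h.exists_sqrt (S := h.ker a ⊓ stabilizer G p) inf_le_left
    ⟨mul_mem hx hx, e⟩
  rw [← h.sq_inj hw.1 hx hw']
  exact hw.2

theorem conj_iv {a : X} {z w : G} (hz : Iv z) (ha : z • a = a) (hw : w ∈ h.ker a) :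
    w * z * w⁻¹ = w * w * z := by
  rw [mul_assoc, h.iv_mul hz ha (inv_mem hw), inv_inv, mul_assoc]

theorem iv_conj {a : X} {z z' : G} (hz : Iv z) (ha : z • a = a) (hz' : Iv z') (ha' : z' • a = a) :
    ∃ w ∈ h.ker a, w * z * w⁻¹ = z' := by
  obtain ⟨w, hw, e⟩ := h.exists_sqrt le_rfl (h.mul_ker hz' ha' hz ha)
  exact ⟨w, hw, by rw [h.conj_iv hz ha hw, e, mul_assoc, hz.1, mul_one]⟩

theorem cnt_iv (a : X) : cnt (fun z : G => Iv z ∧ z • a = a) = k := by
  obtain ⟨z, hz, ha⟩ := h.exists_iv_fix a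
  refine Eq.trans ?_ (h.card_ker a)
  rw [card_eq_cnt]
  exact (cnt_bij (fun x => x * z) (fun x hx => ⟨h.iv_ker_mul hz ha hx, by
    rw [mul_smul, ha, hx.1]⟩) (fun _ _ _ _ e => mul_right_cancel e) fun y hy =>
    ⟨y * z, h.mul_ker hy.1 hy.2 hz ha, by simp [mul_assoc, hz.1]⟩).symm

theorem isConj_iv {a b : X} {z t : G} (hz : Iv z) (ha : z • a = a) (ht : Iv t) (hb : t • b = b) :
    IsConj z t := by
  obtain ⟨g, rfl⟩ := h.tr0 a b
  obtain ⟨w, -, e⟩ := h.iv_conj (hz.conj' g) (by rw [conj_smul_iff, ha]) ht hb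
  exact (isConj_iff.2 ⟨g, rfl⟩).trans (isConj_iff.2 ⟨w, e⟩)

theorem nc_self {a : X} {z : G} (hz : Iv z) (ha : z • a = a) (b : X) : nc z b b = k := by
  refine Eq.trans ?_ (h.cnt_iv b)
  exact cnt_congr fun t => ⟨fun ht => ⟨hz.conj ht.1, ht.2⟩,
    fun ht => ⟨h.isConj_iv hz ha ht.1 ht.2, ht.2⟩⟩

theorem exists_am' : ∃ a m, lam = c * a ∧ k = 1 + c * a + c * m ∧ mu = d * m ∧ 0 < m := by
  obtain ⟨a, m, ha, hk⟩ := h.exists_am
  have h1 := h.mu_eq ha hk
  refine ⟨a, m, ha, hk, h1, Nat.pos_of_ne_zero fun e => ?_⟩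
  have := h.mupos
  rw [h1, e] at this
  omega

/-- an involution fixing a common neighbour and swapping two points -/
theorem exists_swap {q r r' : X} (hr : adj q r) (hr' : adj q r') :
    ∃ t : G, Iv t ∧ t • q = q ∧ t • r = r' := by
  obtain ⟨z, hz, hq, hzr⟩ := h.exists_iv_adj hr
  obtain ⟨y, hy, e⟩ := h.ker_trans hr hr'
  exact ⟨y * z, h.iv_ker_mul hz hq hy, by rw [mul_smul, hq, hy.1], by rw [mul_smul, hzr, e]⟩

end PA

end Cfsg.Agent.R3
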