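import Cfsg.Agent.Lib.R3.ThA

/-!
# Involutions in a coset, when the centralizer is of order two
-/

set_option autoImplicit false

namespace Cfsg.Agent.R3

open Subgroup

universe u

variable {G : Type u} [Group G] [Finite G]

theorem surj_of_fiber_two {A B : Set G} (g : G → G) (z : G) (hAB : ∀ a ∈ A, g a ∈ B)
    (hfib : ∀ a ∈ A, ∀ a' ∈ A, g a = g a' → a' = a ∨ a' = z * a)
    (hcard : 2 * B.ncard ≤ A.ncard) : B.ncard * 2 = A.ncard ∧ ∀ b ∈ B, ∃ a ∈ A, g a = b := by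
  classical
  have hA := Set.toFinite A
  have h1 : hA.toFinset.card ≤ 2 * (hA.toFinset.image g).card := by
    refine Finset.card_le_mul_card_image _ 2 fun b hb => ?_
    obtain ⟨a, ha, rfl⟩ := Finset.mem_image.1 hb
    refine (Finset.card_le_card (t := {a, z * a}) fun x hx => ?_).trans Finset.card_le_two
    rw [Finset.mem_filter, Set.Finite.mem_toFinset] at hx
    simpa using hfib a (hA.mem_toFinset.1 ha) x hx.1 hx.2.symm
  have h2 : g '' A ⊆ B := by
    rintro _ ⟨a, ha, rfl⟩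
    exact hAB a ha
  have h3 : (hA.toFinset.image g).card = (g '' A).ncard := by
    rw [← Set.ncard_coe_finset, Finset.coe_image, Set.Finite.coe_toFinset]
  rw [h3, ← Set.ncard_eq_toFinset_card _ hA] at h1
  have h4 := Set.ncard_le_ncard h2
  have h5 := Set.eq_of_subset_of_ncard_le h2 (by omega)
  exact ⟨by omega, fun b hb => by rwa [← h5] at hb⟩

theorem two_mul_card_le {A B : Subgroup G} (h : A < B) : 2 * Nat.card A ≤ Nat.card B := by
  obtain ⟨c, hc⟩ := card_dvd_of_le h.le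
  have := card_lt_of_lt h
  rw [hc] at this ⊢
  rcases c with _ | _ | c
  · omega
  · omega
  · nlinarith

theorem orderOf_two_elt {x : G} {k : ℕ} (hk : x ^ 2 ^ k = 1) (hx : x ≠ 1) :
    orderOf x = 2 * orderOf (x ^ 2) := by
  obtain ⟨j, -, hj⟩ := (Nat.dvd_prime_pow Nat.prime_two).1 (orderOf_dvd_of_pow_eq_one hk)
  rcases j with _ | j
  · exact absurd (orderOf_eq_one_iff.1 hj) hx
  · rw [orderOf_pow' x two_ne_zero, hj, pow_succ, Nat.gcd_mul_left_left, Nat.mul_div_cancel _ two_pos,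
      mul_comm]

theorem even_of_sq_eq {T : Subgroup G} (hT : IsPGroup 2 T) {u δ : G} (hu : u ∈ T) (hδ : δ ∈ T)
    (hδ1 : δ ≠ 1) (hle : orderOf u ≤ orderOf δ) {j : ℤ} (h : δ ^ j = u ^ 2) : Even j := by
  by_contra hodd
  obtain ⟨k, hk⟩ := hT ⟨u, hu⟩
  obtain ⟨k', hk'⟩ := hT ⟨δ, hδ⟩
  have hk1 : u ^ 2 ^ k = 1 := congrArg Subtype.val hk
  have hk2 : δ ^ 2 ^ k' = 1 := congrArg Subtype.val hk'
  have hc : IsCoprime j ((2 : ℤ) ^ k') :=
    IsCoprime.pow_right (Int.isCoprime_two_right.2 (Int.not_even_iff_odd.1 hodd))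
  obtain ⟨a, b, hab⟩ := hc
  have h1 : δ = (u ^ 2) ^ a := by
    rw [← h, ← zpow_mul, mul_comm, eq_sub_of_add_eq hab, zpow_sub, mul_comm b, zpow_mul]
    rw [show ((2 : ℤ) ^ k') = ((2 ^ k' : ℕ) : ℤ) by push_cast; rfl, zpow_natCast, hk2]
    simp
  have h2 : orderOf δ ≤ orderOf (u ^ 2) :=
    Nat.le_of_dvd (orderOf_pos _) (orderOf_dvd_of_mem_zpowers ⟨a, h1.symm⟩)
  have hu1 : u ≠ 1 := fun h => hδ1 (by simp [h1, h])
  have h3 := orderOf_two_elt hk1 hu1
  have := orderOf_pos (u ^ 2)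
  omega

theorem mem_zpowers_of_comm {T : Subgroup G} (hT : IsPGroup 2 T) {z δ : G}
    (hz : ∀ x ∈ T, x ^ 2 = 1 → x = 1 ∨ x = z) (hδ : δ ∈ T) (hδ1 : δ ≠ 1) (hzδ : z ∈ zpowers δ)
    (n : ℕ) : ∀ u ∈ T, orderOf u = n → Commute u δ → orderOf u ≤ orderOf δ → u ∈ zpowers δ := by
  induction n using Nat.strong_induction_on with
  | _ n ih =>
  intro u hu hn hc hle
  by_cases hu1 : u = 1
  · rw [hu1]
    exact one_mem _
  obtain ⟨k, hk⟩ := hT ⟨u, hu⟩
  have h3 := orderOf_two_elt (x := u) (congrArg Subtype.val hk) hu1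
  have := orderOf_pos (u ^ 2)
  obtain ⟨j, hj⟩ := ih _ (by omega) (u ^ 2) (pow_mem hu 2) rfl (hc.pow_left 2) (by omega)
  obtain ⟨i, rfl⟩ := even_of_sq_eq hT hu hδ hδ1 hle hj
  have h4 := hz (u * δ ^ (-i)) (mul_mem hu (zpow_mem hδ _)) (by
    rw [(hc.zpow_right _).mul_pow, ← show δ ^ (i + i) = u ^ 2 from hj, pow_two, ← zpow_add,
      ← zpow_add]
    simp)
  have h5 : u = u * δ ^ (-i) * δ ^ i := by simp
  rw [h5]
  refine mul_mem ?_ (zpow_mem_zpowers _ _)
  rcases h4 with h | h <;> rw [h]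
  · exact one_mem _
  · exact hzδ

theorem two_group_aux {S D : Subgroup G} (hS : IsPGroup 2 S) {t z : G} (ht : t * t = 1)
    (htS : t ∈ S) (hSD : ∀ x ∈ S, x ∈ D ∨ x * t ∈ D) (htD : t ∉ D)
    (hn : ∀ x ∈ D, t * x * t ∈ D) (hzS : z ∈ S) (hzD : z ∈ D) (hz1 : z ≠ 1) (hz2 : z * z = 1)
    (hzt : t * z = z * t) (hz : ∀ x ∈ D, x ^ 2 = 1 → x = 1 ∨ x = z)
    (hc : ∀ x ∈ D, t * x = x * t → x = 1 ∨ x = z) :
    ∃ δ ∈ S ⊓ D, t * δ * t = δ⁻¹ ∧ (∀ x ∈ S ⊓ D, t * x * t = x⁻¹ → x ∈ zpowers δ) ∧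
      ((∀ x ∈ S ⊓ D, x ∈ zpowers δ) ∨ ∃ b ∈ S ⊓ D, δ = b⁻¹ * (t * b * t)) := by
  set T := S ⊓ D with hTdef
  have hT : IsPGroup 2 T := hS.to_le inf_le_left
  have hti : t⁻¹ = t := inv_eq_of_mul_eq_one_right ht
  have hz' : ∀ x ∈ T, x ^ 2 = 1 → x = 1 ∨ x = z := fun x hx => hz x hx.2
  have hTt : ∀ x ∈ T, t * x * t ∈ T := fun x hx => ⟨mul_mem (mul_mem htS hx.1) htS, hn x hx.2⟩
  have hzI : t * z * t = z⁻¹ := by
    rw [hzt, mul_assoc, ht, mul_one, inv_eq_of_mul_eq_one_right hz2]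
  obtain ⟨δ, ⟨hδ, hδt⟩, hmax⟩ := Set.exists_max_image {x | x ∈ T ∧ t * x * t = x⁻¹} orderOf
    (Set.toFinite _) ⟨z, ⟨hzS, hzD⟩, hzI⟩
  have hδ1 : δ ≠ 1 := by
    intro h
    have := hmax z ⟨⟨hzS, hzD⟩, hzI⟩
    rw [h, orderOf_one, orderOf_eq_prime (p := 2) (by rw [pow_two, hz2]) hz1] at this
    omega
  have hzδ : z ∈ zpowers δ := by
    obtain ⟨x, hx⟩ := exists_prime_orderOf_dvd_card' (G := zpowers δ) 2 (by
      obtain ⟨k, hk⟩ := hT ⟨δ, hδ⟩
      rw [Nat.card_zpowers, orderOf_two_elt (congrArg Subtype.val hk) hδ1]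
      exact dvd_mul_right _ _)
    rw [← Subgroup.orderOf_coe] at hx
    rcases hz' x (zpowers_le.2 hδ x.2) (by rw [← hx, pow_orderOf_eq_one]) with h | h
    · rw [h, orderOf_one] at hx
      omega
    · exact h ▸ x.2
  set U := zpowers δ with hU
  have hUT : U ≤ T := zpowers_le.2 hδ
  have hUt : ∀ x ∈ U, t * x * t = x⁻¹ := by
    rintro _ ⟨j, rfl⟩
    have : t * δ ^ j * t⁻¹ = (t * δ * t⁻¹) ^ j := conj_zpow.symm
    rw [hti] at this
    simp only [this, hδt, inv_zpow]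
  have hcy : ∀ u ∈ T, t * u * t = u⁻¹ → Commute u δ → u ∈ U := fun u hu h1 h2 =>
    mem_zpowers_of_comm hT hz' hδ hδ1 hzδ _ u hu rfl h2 (hmax u ⟨hu, h1⟩)
  let g : G → G := fun b => b⁻¹ * (t * b * t)
  have hgI : ∀ b, t * g b * t = (g b)⁻¹ := fun b => by
    change t * (b⁻¹ * (t * b * t)) * t = (b⁻¹ * (t * b * t))⁻¹
    rw [mul_inv_rev, mul_inv_rev, mul_inv_rev, hti, inv_inv]
    calc t * (b⁻¹ * (t * b * t)) * t = t * b⁻¹ * t * b * (t * t) := by group
      _ = _ := by rw [ht]; group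
  have hfib : ∀ a ∈ T, ∀ a' ∈ T, g a = g a' → a' = a ∨ a' = z * a := by
    intro a ha a' ha' h
    have h1 : a⁻¹ * (t * a * t) = a'⁻¹ * (t * a' * t) := h
    rcases hc (a' * a⁻¹) (mul_mem ha'.2 (inv_mem ha.2)) (by
      calc t * (a' * a⁻¹) = a' * (a'⁻¹ * (t * a' * t)) * t⁻¹ * a⁻¹ := by group
        _ = _ := by rw [← h1]; group) with h2 | h2
    · exact Or.inl (mul_inv_eq_one.1 h2)
    · exact Or.inr (by rw [← h2]; group)
  refine ⟨δ, hδ, hδt, ?_⟩
  by_cases hUT' : U = T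
  · exact ⟨fun x hx _ => hUT'.ge hx, Or.inl fun x hx => hUT'.ge hx⟩
  set M := T ⊓ normalizer (U : Set G) with hM
  have hUM : U < M := by
    obtain ⟨x, hx, hx', hx''⟩ := exists_mem_normalizer_of_lt hT (lt_of_le_of_ne hUT hUT')
    exact lt_of_le_of_ne (le_inf hUT le_normalizer) fun h => hx' (h ▸ ⟨hx, hx''⟩)
  have hgM : ∀ b ∈ M, g b ∈ U := by
    intro b hb
    refine hcy _ (mul_mem (inv_mem hb.1) (hTt b hb.1)) (hgI b) ?_
    have h1 := hUt _ ((mem_normalizer_iff.1 hb.2 δ⁻¹).1 (inv_mem (mem_zpowers δ)))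
    change b⁻¹ * (t * b * t) * δ = δ * (b⁻¹ * (t * b * t))
    calc b⁻¹ * (t * b * t) * δ = b⁻¹ * t * b * (t * δ * t) * t⁻¹ := by group
      _ = b⁻¹ * (t * (b * δ⁻¹ * b⁻¹) * t) * t⁻¹ * b * t⁻¹ := by rw [hδt]; group
      _ = _ := by rw [h1, hti]; group
  obtain ⟨hc1, hs1⟩ := surj_of_fiber_two (A := M) (B := U) g z hgM
    (fun a ha a' ha' => hfib a ha.1 a' ha'.1) (by
      rw [← Nat.card_coe_set_eq, ← Nat.card_coe_set_eq]
      exact two_mul_card_le hUM)
  have htU : t ∈ normalizer (U : Set G) := mem_normalizer_fintype fun x hx => by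
    rw [hti, hUt x hx]
    exact inv_mem hx
  have hMt : ∀ x ∈ M, t * x * t ∈ M := fun x hx =>
    ⟨hTt x hx.1, mul_mem (mul_mem htU hx.2) htU⟩
  have hMT : M = T := by
    by_contra hne
    let M' : Subgroup G :=
      { carrier := {x | x ∈ M ∨ x * t ∈ M}
        one_mem' := Or.inl (one_mem _)
        mul_mem' := by
          rintro a b (ha | ha) (hb | hb)
          · exact Or.inl (mul_mem ha hb)
          · exact Or.inr (by rw [mul_assoc]; exact mul_mem ha hb)
          · refine Or.inr ?_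
            rw [show a * b * t = (a * t) * (t * b * t) by
              calc a * b * t = a * (t * t) * b * t := by rw [ht, mul_one]
                _ = _ := by group]
            exact mul_mem ha (hMt b hb)
          · refine Or.inl ?_
            rw [show a * b = (a * t) * (t * (b * t) * t) by
              calc a * b = a * (t * t) * b * (t * t) := by rw [ht]; group
                _ = _ := by group]
            exact mul_mem ha (hMt _ hb)
        inv_mem' := by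
          rintro a (ha | ha)
          · exact Or.inl (inv_mem ha)
          · refine Or.inr ?_
            rw [show a⁻¹ * t = t * (a * t)⁻¹ * t by rw [mul_inv_rev, hti, ← mul_assoc, ht, one_mul]]
            exact hMt _ (inv_mem ha) }
    have htM' : t ∈ M' := Or.inr (ht ▸ one_mem _)
    have hM'D : ∀ x ∈ M', x ∈ D → x ∈ M := by
      rintro x (hx | hx) hD
      · exact hx
      · exact absurd ((mul_mem_cancel_left hD).1 hx.1.2) htD
    have hlt : M' < S := by
      refine lt_of_le_of_ne ?_ fun h => hne (le_antisymm inf_le_left fun x hx =>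
        hM'D x (h ▸ hx.1) hx.2)
      rintro x (hx | hx)
      · exact hx.1.1
      · exact (mul_mem_cancel_right htS).1 hx.1.1
    obtain ⟨x, hx, hx', hx''⟩ : ∃ x ∈ T, x ∉ M ∧ x ∈ normalizer (M' : Set G) := by
      obtain ⟨x, hx, hx', hx''⟩ := exists_mem_normalizer_of_lt hS hlt
      rcases hSD x hx with h | h
      · exact ⟨x, ⟨hx, h⟩, fun h => hx' (Or.inl h), hx''⟩
      · exact ⟨x * t, ⟨mul_mem hx htS, h⟩, fun h => hx' (Or.inr h),
          mul_mem hx'' (le_normalizer htM')⟩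
    have hgx : g x ∈ M := by
      refine hM'D _ ?_ (mul_mem (inv_mem hx.2) (hn x hx.2))
      change x⁻¹ * (t * x * t) ∈ M'
      rw [← mul_assoc, ← mul_assoc]
      exact mul_mem ((mem_normalizer_iff''.1 hx'' t).1 htM') htM'
    obtain ⟨-, hs2⟩ := surj_of_fiber_two (A := (M : Set G) ∪ (fun m => x * m) '' M) (B := M) g z
      (by
        rintro a (ha | ⟨m, hm, rfl⟩)
        · exact hUM.le (hgM a ha)
        · have : g (x * m) = m⁻¹ * g x * (t * m * t) := by
            change (x * m)⁻¹ * (t * (x * m) * t) = m⁻¹ * (x⁻¹ * (t * x * t)) * (t * m * t)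
            calc _ = m⁻¹ * x⁻¹ * t * x * (t * t) * m * t := by rw [ht]; group
              _ = _ := by group
          rw [SetLike.mem_coe, this]
          exact mul_mem (mul_mem (inv_mem hm) hgx) (hMt m hm))
      (fun a ha a' ha' => by
        have h : ∀ a ∈ (M : Set G) ∪ (fun m => x * m) '' M, a ∈ T := by
          rintro a (ha | ⟨m, hm, rfl⟩)
          · exact ha.1
          · exact mul_mem hx hm.1
        exact hfib a (h a ha) a' (h a' ha'))
      (by
        rw [Set.ncard_union_eq, Set.ncard_image_of_injective _ (mul_right_injective x), two_mul]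
        rw [Set.disjoint_left]
        rintro _ ha ⟨m, hm, rfl⟩
        exact hx' ((mul_mem_cancel_right hm).1 ha))
    have hMI : ∀ m ∈ M, t * m * t = m⁻¹ := fun m hm => by
      obtain ⟨a, -, rfl⟩ := hs2 m hm
      exact hgI a
    refine hUM.not_ge fun m hm => hcy m hm.1 (hMI m hm) ?_
    have h1 := hMI _ (mul_mem hm (hUM.le (mem_zpowers δ)))
    have h2 : t * (m * δ) * t = m⁻¹ * δ⁻¹ := by
      rw [← hMI m hm, ← hδt]
      calc t * (m * δ) * t = t * m * (t * t) * δ * t := by rw [ht]; group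
        _ = _ := by group
    rw [h2, ← mul_inv_rev, inv_inj] at h1
    exact h1.symm
  obtain ⟨b, hb, hbδ⟩ := hs1 δ (mem_zpowers δ)
  refine ⟨fun u hu hut => ?_, Or.inr ⟨b, hb.1, hbδ.symm⟩⟩
  by_contra huU
  have hidx : (U.subgroupOf T).index = 2 := by
    have h1 := (U.subgroupOf T).card_mul_index
    rw [Nat.card_congr (subgroupOfEquivOfLe hUT).toEquiv] at h1
    have h2 : Nat.card U * 2 = Nat.card T := hMT ▸ hc1
    exact Nat.eq_of_mul_eq_mul_left Nat.card_pos (h1.trans h2.symm)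
  obtain ⟨j, hj⟩ : u ^ 2 ∈ U := by
    have := inv_mem (hgM u (hMT ▸ hu))
    rwa [show (g u)⁻¹ = u ^ 2 by simp [g, hut, pow_two]] at this
  obtain ⟨i, rfl⟩ := even_of_sq_eq hT hu hδ hδ1 (hmax u ⟨hu, hut⟩) hj
  have hsq : ∃ w ∈ U, δ ^ (1 : ℤ) = w ^ 2 := by
    by_cases hbU : b ∈ U
    · exact ⟨b⁻¹, inv_mem hbU, by rw [zpow_one, ← hbδ]; simp [g, hUt b hbU, pow_two]⟩
    · have h1 : u⁻¹ * b ∈ U := (mul_mem_iff_of_index_two hidx (a := ⟨u⁻¹, inv_mem hu⟩)
        (b := ⟨b, hb.1⟩)).2 (iff_of_false (fun h => huU ((inv_mem_iff (x := u)).1 h)) hbU)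
      obtain ⟨n, hn'⟩ := h1
      have h2 : b = u * δ ^ n := by rw [show δ ^ n = u⁻¹ * b from hn']; group
      refine ⟨δ ^ (-(i + n)), zpow_mem_zpowers _ _, ?_⟩
      have h3 : g b = (δ ^ n)⁻¹ * (u ^ 2)⁻¹ * (δ ^ n)⁻¹ := by
        change b⁻¹ * (t * b * t) = _
        have e1 := hUt _ (zpow_mem_zpowers δ n)
        calc b⁻¹ * (t * b * t) = (δ ^ n)⁻¹ * u⁻¹ * (t * u * (t * t) * δ ^ n * t) := by
              rw [ht, h2]; group
          _ = (δ ^ n)⁻¹ * u⁻¹ * (t * u * t) * (t * δ ^ n * t) := by group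
          _ = _ := by rw [hut, e1, pow_two]; group
      rw [zpow_one]
      conv_lhs => rw [← hbδ, h3, ← show δ ^ (i + i) = u ^ 2 from hj]
      group
  obtain ⟨w, hw, hw'⟩ := hsq
  have := even_of_sq_eq hT (hUT hw) hδ hδ1
    (Nat.le_of_dvd (orderOf_pos _) (orderOf_dvd_of_mem_zpowers hw)) hw'
  simp at this

theorem two_class {D : Subgroup G} {t z : G} (ht : t * t = 1) (htD : t ∉ D)
    (hn : ∀ x ∈ D, t * x * t ∈ D) (hzD : z ∈ D) (hz1 : z ≠ 1) (hz2 : z * z = 1)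
    (hz : ∀ x ∈ D, x ^ 2 = 1 → x = 1 ∨ x = z)
    (hc : ∀ x ∈ D, t * x = x * t → x = 1 ∨ x = z) :
    ∃ t' : G, (∀ s, s * s = 1 → t * s ∈ D →
      ∃ b ∈ D, s = b⁻¹ * t * b ∨ s = b⁻¹ * t' * b) ∧
      ∀ s, s * s = 1 → t * s ∈ D → ∀ a ∈ D, s * a = a * s → a ^ 4 = 1 → a ^ 2 = 1 := by
  have hti : t⁻¹ = t := inv_eq_of_mul_eq_one_right ht
  have hzt : t * z = z * t := by
    rcases hz _ (hn z hzD) (by
      calc (t * z * t) ^ 2 = t * z * (t * t) * z * t := by rw [pow_two]; group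
        _ = 1 := by rw [ht, mul_one, mul_assoc t, hz2, mul_one, ht]) with h | h
    · refine absurd ?_ hz1
      calc z = t * (t * z * t) * t := by rw [← mul_assoc, ← mul_assoc, ht, one_mul, mul_assoc, ht,
          mul_one]
        _ = 1 := by rw [h, mul_one, ht]
    · calc t * z = t * z * t * t := by rw [mul_assoc _ t, ht, mul_one]
        _ = _ := by rw [h]
  let L : Subgroup G :=
    { carrier := {x | x ∈ D ∨ x * t ∈ D}
      one_mem' := Or.inl (one_mem _)
      mul_mem' := by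
        rintro a b (ha | ha) (hb | hb)
        · exact Or.inl (mul_mem ha hb)
        · exact Or.inr (by rw [mul_assoc]; exact mul_mem ha hb)
        · refine Or.inr ?_
          rw [show a * b * t = (a * t) * (t * b * t) by
            calc a * b * t = a * (t * t) * b * t := by rw [ht, mul_one]
              _ = _ := by group]
          exact mul_mem ha (hn b hb)
        · refine Or.inl ?_
          rw [show a * b = (a * t) * (t * (b * t) * t) by
            calc a * b = a * (t * t) * b * (t * t) := by rw [ht]; group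
              _ = _ := by group]
          exact mul_mem ha (hn _ hb)
      inv_mem' := by
        rintro a (ha | ha)
        · exact Or.inl (inv_mem ha)
        · refine Or.inr ?_
          rw [show a⁻¹ * t = t * (a * t)⁻¹ * t by rw [mul_inv_rev, hti, ← mul_assoc, ht, one_mul]]
          exact hn _ (inv_mem ha) }
  have htL : t ∈ L := Or.inr (ht ▸ one_mem _)
  have hpg : ∀ s a : G, s * s = 1 → s * a = a * s → a ^ 4 = 1 →
      IsPGroup 2 (zpowers s ⊔ zpowers a : Subgroup G) := by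
    intro s a hs hsa ha
    have h1 : ∀ y : G, y ^ 2 ^ 2 = 1 → IsPGroup 2 (zpowers y) := by
      rintro y hy ⟨_, j, rfl⟩
      refine ⟨2, Subtype.ext ?_⟩
      change (y ^ j) ^ 2 ^ 2 = 1
      rw [← zpow_natCast, ← zpow_mul, mul_comm, zpow_mul, zpow_natCast, hy, one_zpow]
    refine IsPGroup.to_sup_of_normal_right' (h1 s (by
      rw [show 2 ^ 2 = 2 * 2 from rfl, pow_mul, pow_two s, hs, one_pow])) (h1 a ha)
      (zpowers_le.2 (mem_normalizer_fintype ?_))
    rintro _ ⟨j, rfl⟩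
    rw [((show Commute s a from hsa).zpow_right j).eq, mul_inv_cancel_right]
    exact zpow_mem_zpowers _ _
  obtain ⟨S0, hS0⟩ := ((hpg t z ht hzt (by
    rw [show 4 = 2 * 2 from rfl, pow_mul, pow_two z, hz2, one_pow])).comap_subtype
      (K := L)).exists_le_sylow
  set S := (S0 : Subgroup L).map L.subtype with hS
  have hSp : IsPGroup 2 S := S0.isPGroup'.map _
  have hSL : S ≤ L := map_subtype_le _
  obtain ⟨δ, ⟨hδS, hδD⟩, hδt, hI, hlast⟩ := two_group_aux hSp ht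
    ⟨⟨t, htL⟩, hS0 (mem_sup_left (mem_zpowers t)), rfl⟩ (fun x hx => hSL hx) htD hn
    ⟨⟨z, Or.inl hzD⟩, hS0 (mem_sup_right (mem_zpowers z)), rfl⟩ hzD hz1 hz2 hzt hz hc
  have hconj : ∀ s a : G, s * s = 1 → t * s ∈ D → a ∈ D → s * a = a * s → a ^ 4 = 1 →
      ∃ m ∈ D, m * a * m⁻¹ ∈ S ∧ ∃ j : ℤ, m * s * m⁻¹ = t * δ ^ j := by
    intro s a hs hts ha hsa ha4
    have hsL : s ∈ L := Or.inr (by
      have := inv_mem hts
      rwa [mul_inv_rev, hti, inv_eq_of_mul_eq_one_right hs] at this)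
    obtain ⟨m, hm, hm'⟩ := exists_conj_of_max hSL (sup_le (zpowers_le.2 hsL)
      (zpowers_le.2 (Or.inl ha))) hSp (hpg s a hs hsa ha4) (fun T hT hTp => by
        rw [hS, card_map_of_injective L.subtype_injective,
          ← Nat.card_congr (subgroupOfEquivOfLe hT).toEquiv]
        exact card_le_sylow S0 hTp.comap_subtype)
    have h1 := hm' s (mem_sup_left (mem_zpowers s))
    have h2 := hm' a (mem_sup_right (mem_zpowers a))
    obtain ⟨m, hm, h1, h2⟩ : ∃ m ∈ D, m * s * m⁻¹ ∈ S ∧ m * a * m⁻¹ ∈ S := by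
      rcases hm with hm | hm
      · exact ⟨m, hm, h1, h2⟩
      · refine ⟨m * s, ?_, ?_, ?_⟩
        · rw [show m * s = (m * t) * (t * s) by rw [← mul_assoc, mul_assoc m, ht, mul_one]]
          exact mul_mem hm hts
        · rwa [show m * s * s * (m * s)⁻¹ = m * s * m⁻¹ by group]
        · rwa [show m * s * a * (m * s)⁻¹ = m * a * m⁻¹ by rw [mul_assoc m, hsa]; group]
    refine ⟨m, hm, h2, ?_⟩
    obtain ⟨j, hj⟩ := hI (t * (m * s * m⁻¹)) ⟨mul_mem ⟨⟨t, htL⟩,
      hS0 (mem_sup_left (mem_zpowers t)), rfl⟩ h1, by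
        rw [show t * (m * s * m⁻¹) = (t * m * t) * (t * s) * m⁻¹ by
          calc _ = t * m * (t * t) * s * m⁻¹ := by rw [ht]; group
            _ = _ := by group]
        exact D.mul_mem (D.mul_mem (hn m hm) hts) (D.inv_mem hm)⟩ (by
      rw [← mul_assoc, ht, one_mul, mul_inv_rev, hti, mul_inv_rev, mul_inv_rev, inv_inv,
        inv_eq_of_mul_eq_one_right hs, mul_assoc m s])
    exact ⟨j, by rw [show δ ^ j = _ from hj, ← mul_assoc, ht, one_mul]⟩
  have hUt : ∀ j : ℤ, δ ^ (-j) * t = t * δ ^ j := by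
    intro j
    have : t * δ ^ j * t⁻¹ = (t * δ * t⁻¹) ^ j := conj_zpow.symm
    rw [hti, hδt, inv_zpow'] at this
    rw [← this, mul_assoc, ht, mul_one]
  have hcls : ∀ j : ℤ, ∃ b ∈ D, t * δ ^ j = b⁻¹ * t * b ∨ t * δ ^ j = b⁻¹ * (t * δ) * b := by
    intro j
    obtain ⟨i, rfl | rfl⟩ := Int.even_or_odd' j
    · exact ⟨δ ^ i, zpow_mem (show δ ∈ D from hδD) i, Or.inl (by rw [← zpow_neg, hUt]; group)⟩
    · exact ⟨δ ^ i, zpow_mem (show δ ∈ D from hδD) i, Or.inr (by rw [← zpow_neg, ← mul_assoc, hUt]; group)⟩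
  refine ⟨t * δ, fun s hs hts => ?_, fun s hs hts a ha hsa ha4 => ?_⟩
  · obtain ⟨m, hm, -, j, hj⟩ := hconj s 1 hs hts (one_mem _) (by simp) (by simp)
    obtain ⟨b, hb, h⟩ := hcls j
    refine ⟨b * m, mul_mem hb hm, ?_⟩
    have e : s = m⁻¹ * (t * δ ^ j) * m := by rw [← hj]; group
    rcases h with h | h
    · exact Or.inl (by rw [e, h]; group)
    · exact Or.inr (by rw [e, h]; group)
  · obtain ⟨m, hm, hmS, j, hj⟩ := hconj s a hs hts ha hsa ha4
    have hfin : ∀ b ∈ D, s = b⁻¹ * t * b → a ^ 2 = 1 := by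
      intro b hb h
      have h1 := hc (b * a * b⁻¹) (mul_mem (mul_mem hb ha) (inv_mem hb)) (by
        calc t * (b * a * b⁻¹) = b * (b⁻¹ * t * b * a) * b⁻¹ := by group
          _ = _ := by rw [← h, hsa, h]; group)
      have h2 : (b * a * b⁻¹) ^ 2 = 1 := by
        rcases h1 with h1 | h1 <;> rw [h1]
        · simp
        · rw [pow_two, hz2]
      rwa [conj_pow, conj_eq_one_iff] at h2
    have e : s = m⁻¹ * (t * δ ^ j) * m := by rw [← hj]; group
    rcases hlast with hl | ⟨c, hc', hl⟩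
    · obtain ⟨n, hn'⟩ := hl _ ⟨hmS, D.mul_mem (D.mul_mem hm ha) (D.inv_mem hm)⟩
      have h1 : t * δ ^ j * δ ^ n = δ ^ n * (t * δ ^ j) := by
        rw [← hj, show δ ^ n = _ from hn']
        calc m * s * m⁻¹ * (m * a * m⁻¹) = m * (s * a) * m⁻¹ := by group
          _ = _ := by rw [hsa]; group
      have h2 : δ ^ n * t = t * δ ^ (-n) := by rw [← hUt, neg_neg]
      rw [← mul_assoc, h2, mul_assoc, mul_assoc, mul_right_inj, ← zpow_add, ← zpow_add] at h1
      have h3 : (m * a * m⁻¹) ^ 2 = 1 := by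
        rw [← show δ ^ n = _ from hn']
        calc (δ ^ n) ^ 2 = δ ^ (j + n) * (δ ^ (-n + j))⁻¹ := by group
          _ = 1 := by rw [h1, mul_inv_cancel]
      rwa [conj_pow, conj_eq_one_iff] at h3
    · obtain ⟨b, hb, h | h⟩ := hcls j
      · exact hfin (b * m) (mul_mem hb hm) (by rw [e, h]; group)
      · refine hfin (t * c * t * b * m) (mul_mem (mul_mem (hn c hc'.2) hb) hm) ?_
        rw [e, h, hl]
        simp only [mul_inv_rev, hti]
        calc _ = m⁻¹ * b⁻¹ * t * c⁻¹ * t * (t * t) * c * t * b * m := by rw [ht]; group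
          _ = _ := by group

end Cfsg.Agent.R3
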