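import Cfsg.Agent.Lib.R3.CaseA
import Cfsg.Agent.Lib.R3.TwoClass

/-!
# Even complement, the kernel meets the stabilizer of a far point
-/

set_option autoImplicit false

namespace Cfsg.Agent.R3

open Subgroup MulAction

universe u v

variable {G : Type u} [Group G] [Fintype G] {X : Type v} [MulAction G X] [Fintype X]
  {adj : X → X → Prop} {k l c d lam mu : ℕ}

namespace PA

variable (h : PA G adj k l c d lam mu)
include h

/-- the part of the kernel at `x` fixing `y` -/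
def dd (x y : X) : Subgroup G := h.ker x ⊓ stabilizer G y

theorem ker_conj_iff {x : X} (e g : G) : e ∈ h.ker x ↔ g * e * g⁻¹ ∈ h.ker (g • x) :=
  ⟨fun he => h.conj_mem he g, fun he => by
    have := h.conj_mem he g⁻¹
    rwa [inv_smul_smul, show g⁻¹ * (g * e * g⁻¹) * g⁻¹⁻¹ = e by group] at this⟩

theorem dd_conj_iff {x y : X} (e g : G) : e ∈ h.dd x y ↔ g * e * g⁻¹ ∈ h.dd (g • x) (g • y) :=
  and_congr (h.ker_conj_iff e g) (conj_smul_iff g e y y).symm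

theorem card_dd {x y x' y' : X} (h1 : x ≠ y) (h1' : ¬ adj x y) (h2 : x' ≠ y') (h2' : ¬ adj x' y') :
    Nat.card (h.dd x y) = Nat.card (h.dd x' y') := by
  obtain ⟨g, rfl, rfl⟩ := h.tr2 h1 h1' h2 h2'
  rw [card_eq_cnt, card_eq_cnt]
  exact cnt_conj g fun t => h.dd_conj_iff t g

theorem cnt_iv_far {x y x' y' : X} (h1 : x ≠ y) (h1' : ¬ adj x y) (h2 : x' ≠ y')
    (h2' : ¬ adj x' y') : cnt (fun t : G => (Iv t ∧ t • x = x) ∧ t • y = y) =
      cnt (fun t : G => (Iv t ∧ t • x' = x') ∧ t • y' = y') := by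
  obtain ⟨g, rfl, rfl⟩ := h.tr2 h1 h1' h2 h2'
  refine cnt_conj g fun t => ?_
  rw [conj_smul_iff, conj_smul_iff]
  exact and_congr_left' (and_congr_left' ⟨fun e => e.conj' g, fun e =>
    e.conj (isConj_iff.2 ⟨g, rfl⟩).symm⟩)

theorem comm_inj {a : X} {g x y : G} (hg : g • a = a) (hg' : g ∉ h.ker a) (hx : x ∈ h.ker a)
    (hy : y ∈ h.ker a) (e : x⁻¹ * (g * x * g⁻¹) = y⁻¹ * (g * y * g⁻¹)) : x = y := by
  by_contra hne
  refine hg' (h.mem_ker_of_comm (mul_mem hx (inv_mem hy))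
    (fun e => hne (mul_inv_eq_one.1 e)) hg ?_)
  calc g * (x * y⁻¹) = x * (x⁻¹ * (g * x * g⁻¹)) * (g * y⁻¹) := by group
    _ = _ := by rw [e]; group

theorem a0_c1 {a p : X} (hp : a ≠ p) (hp' : ¬ adj a p) {x0 : G} (hx0 : x0 ∈ h.dd a p)
    (hx1 : x0 ≠ 1) {x : G} (hx : x ∈ h.ker a) (hxp : x • p ≠ p) :
    ∃ c1, cnt (fun r => (∀ g ∈ h.dd a p, g • r = r) ∧ r ≠ a) * d = k * c1 ∧
      c1 + 1 ≤ cnt (fun z => ∃ g ∈ h.ker a, g • p = z) := by
  obtain ⟨b, hb⟩ := h.exists_adj a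
  set N := stabilizer G a ⊓ normalizer (h.dd a p : Set G) with hN
  have h1 := cnt_orbit_mul (fun (g : G) (y : X) => g • y) (one_smul G) mul_smul N p
  have h2 := cnt_orbit_mul (fun (g : G) (y : X) => g • y) (one_smul G) mul_smul N b
  have e1 : cnt (fun g => g ∈ N ∧ g • p = p) = d := by
    refine Eq.trans ?_ (h.hd hp hp')
    rw [card_eq_cnt]
    refine cnt_congr fun g => ⟨fun hg => ⟨hg.1.1, hg.2⟩, fun hg => ⟨⟨hg.1, ?_⟩, hg.2⟩⟩
    refine mem_normalizer_fintype fun y hy => ?_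
    have := (h.dd_conj_iff y g).1 hy
    rwa [show g • a = a from hg.1, show g • p = p from hg.2] at this
  have e2 : cnt (fun z => ∃ g ∈ N, g • b = z) = k := by
    refine Eq.trans ?_ (h.hk a)
    refine cnt_congr fun z => ⟨?_, fun hz => ?_⟩
    · rintro ⟨g, hg, rfl⟩
      simpa [show g • a = a from hg.1] using h.smul g hb
    · obtain ⟨g, hg, e⟩ := h.ker_trans hb hz
      refine ⟨g, ⟨hg.1, mem_normalizer_fintype fun y hy => ?_⟩, e⟩
      rwa [h.ker_comm hg hy.1, mul_inv_cancel_right]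
  have e3 : cnt (fun z => ∃ g ∈ N, g • p = z) =
      cnt (fun r => (∀ g ∈ h.dd a p, g • r = r) ∧ r ≠ a) := by
    refine cnt_congr fun r => ⟨?_, fun hr => ?_⟩
    · rintro ⟨n, hn, rfl⟩
      refine ⟨fun y hy => ?_, fun e => hp (MulAction.injective n (hn.1.trans e.symm))⟩
      rw [← mul_smul, show y * n = n * (n⁻¹ * y * n) by group, mul_smul,
        ((mem_normalizer_iff''.1 hn.2 y).1 hy).2]
    · have hf := h.not_adj_of_ker hx0.1 hx1 hx0.1.1 (hr.1 _ hx0)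
      obtain ⟨g, hg1, hg2⟩ := h.tr2 hp hp' hr.2.symm hf
      refine ⟨g, ⟨hg1, mem_normalizer_fintype fun y hy => ?_⟩, hg2⟩
      have h3 : h.dd a p = h.dd a r :=
        eq_of_le_of_card_ge (fun g hg => ⟨hg.1, hr.1 g hg⟩) (h.card_dd hr.2.symm hf hp hp').le
      have := (h.dd_conj_iff y g).1 hy
      rwa [hg1, hg2, ← h3] at this
  rw [e1, e3] at h1
  rw [e2] at h2
  refine ⟨_, h1.trans h2.symm, ?_⟩
  rw [cnt_erase (p := fun z => ∃ g ∈ h.ker a, g • p = z) (a := p) ⟨1, one_mem _, one_smul _ _⟩,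
    add_le_add_iff_right]
  refine cnt_le_of_inj (fun g => (g * x * g⁻¹) • p) (fun g hg =>
    ⟨⟨_, h.conj_mem' hx hg.1.1, rfl⟩, fun e => hxp ?_⟩) fun g1 g2 hg1 hg2 e => ?_
  · exact ((mem_normalizer_iff.1 hg.1.2 x).2 ⟨h.conj_mem' hx hg.1.1, e⟩).2
  · by_contra hne
    have hg : g2⁻¹ * g1 ∈ N := mul_mem (inv_mem hg2.1) hg1.1
    have hg' : g2⁻¹ * g1 ∉ h.ker a := fun e1 => hne (inv_mul_eq_one.1 (h.ker_eq_one e1 hb (by
      rw [mul_smul, hg1.2, inv_smul_eq_iff, hg2.2]))).symm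
    have h3 : (g2 * x * g2⁻¹)⁻¹ * (g1 * x * g1⁻¹) ∈ h.dd a p :=
      ⟨(h.ker a).mul_mem ((h.ker a).inv_mem (h.conj_mem' hx hg2.1.1)) (h.conj_mem' hx hg1.1.1), by
        change (_ * _ : G) • p = p
        rw [mul_smul, show (g1 * x * g1⁻¹) • p = (g2 * x * g2⁻¹) • p from e, inv_smul_smul]⟩
    have h4 := (mem_normalizer_iff''.1 hg2.1.2 _).1 h3
    obtain ⟨y, hy, e1⟩ := h.comm_surj hg.1 hg' (S := h.dd a p) inf_le_left
      (fun y hy => (mem_normalizer_iff.1 hg.2 y).1 hy) h4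
    have h5 := h.comm_inj hg.1 hg' hy.1 hx (by rw [e1]; group)
    exact hxp (h5 ▸ hy.2)

theorem a0_inv {a p : X} (hp : a ≠ p) (hp' : ¬ adj a p) {x0 : G} (hx0 : x0 ∈ h.dd a p)
    (hx1 : x0 ≠ 1) {M : ℕ} (hM : cnt (fun r => (∀ g ∈ h.dd a p, g • r = r) ∧ r ≠ a) = M) :
    ∃ s, k * s = M * cnt (fun t : G => (Iv t ∧ t • a = a) ∧ t • p = p) ∧
      (M + 1) * k ≤ (k + M * Nat.card (h.dd a p)) * (s + 1) := by
  set L : X → Prop := fun r => ∀ g ∈ h.dd a p, g • r = r with hL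
  set e := cnt (fun t : G => (Iv t ∧ t • a = a) ∧ t • p = p)
  have hLa : L a := fun g hg => hg.1.1
  have hker : ∀ r, L r → ∀ g ∈ h.dd a p, g ∈ h.ker r := fun r hr g hg =>
    h.ker_of_fix hg.1 (hr g hg)
  have hfar : ∀ r r', L r → L r' → ¬ adj r r' := fun r r' hr hr' =>
    h.not_adj_of_ker hx0.1 hx1 (hr _ hx0) (hr' _ hx0)
  have hcL : cnt L = M + 1 := by rw [cnt_erase hLa, hM]
  have hM' : ∀ r, L r → cnt (fun y => L y ∧ y ≠ r) = M := fun r hr => by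
    have := cnt_erase hr
    omega
  have hK : ∀ r y w, L r → L y → w ∈ h.ker r → L (w • y) := fun r y w hr hy hw g hg => by
    rw [← mul_smul, h.ker_comm (hker r hr g hg) hw, mul_smul, hy g hg]
  have hZ : ∀ r y z, L r → L y → Iv z → z • r = r → L (z • y) := fun r y z hr hy hz hzr g hg => by
    rw [← mul_smul, ← inv_inv g, ← h.iv_mul hz hzr (inv_mem (hker r hr g hg)), mul_smul,
      hy _ (inv_mem hg)]
  have hs : ∀ r z, L r → Iv z → z • r = r →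
      k * cnt (fun y => (L y ∧ y ≠ r) ∧ z • y = y) = M * e := fun r z hr hz hzr => by
    rw [← hM' r hr]
    refine Eq.trans (by rw [h.cnt_iv r]) (cnt_mul_eq (p := fun t : G => Iv t ∧ t • r = r)
      (q := fun y => L y ∧ y ≠ r) (fun t y => t • y = y) (fun t ht => ?_) fun y hy =>
        h.cnt_iv_far hy.2.symm (hfar _ _ hr hy.1) hp hp')
    obtain ⟨w, hw, rfl⟩ := h.iv_conj hz hzr ht.1 ht.2
    refine (cnt_smul w fun y => ?_).symm
    rw [conj_smul_iff]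
    refine and_congr_left' (and_congr ⟨fun hy => hK r y w hr hy hw, fun hy => ?_⟩ ?_)
    · simpa using hK r _ _ hr hy (inv_mem hw)
    · rw [Ne, Ne, smul_eq_iff_eq_inv_smul, (inv_mem hw).1]
  obtain ⟨z0, hz0, hz0a⟩ := h.exists_iv_fix a
  refine ⟨_, hs a z0 hLa hz0 hz0a, ?_⟩
  have h1 := cnt_mul_eq (p := fun t : G => Iv t ∧ ∃ r, L r ∧ t • r = r) (q := L)
    (fun t y => t • y = y) (m := cnt (fun y => (L y ∧ y ≠ a) ∧ z0 • y = y) + 1) (n := k)
    (fun t ht => by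
      obtain ⟨r, hr, htr⟩ := ht.2
      rw [cnt_erase (a := r) ⟨hr, htr⟩, ← Nat.eq_of_mul_eq_mul_left h.k_pos
        ((hs r t hr ht.1 htr).trans (hs a z0 hLa hz0 hz0a).symm)]
      congr 1
      exact cnt_congr fun y => by tauto)
    fun y hy => by
      refine Eq.trans ?_ (h.cnt_iv y)
      exact cnt_congr fun t => ⟨fun ht => ⟨ht.1.1, ht.2⟩, fun ht => ⟨⟨ht.1, y, hy, ht.2⟩, ht.2⟩⟩
  rw [← hcL, ← h1]
  refine Nat.mul_le_mul_right _ ?_
  rw [cnt_split _ (fun t : G => t • a = a)]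
  refine add_le_add (le_of_le_of_eq (cnt_mono fun t ht => ⟨ht.1.1, ht.2⟩) (h.cnt_iv a)) ?_
  rw [← hM' a hLa, ← mul_one (cnt fun t : G => _)]
  refine cnt_mul_le (fun t y => t • a = y) (fun t ht => ?_) fun y hy => ?_
  · obtain ⟨r, hr, htr⟩ := ht.1.2
    exact cnt_pos.2 ⟨t • a, ⟨hZ r a t hr hLa ht.1.1 htr, ht.2⟩, rfl⟩
  · rcases Nat.eq_zero_or_pos (cnt fun t : G => ((Iv t ∧ ∃ r, L r ∧ t • r = r) ∧ ¬ t • a = a) ∧
      t • a = y) with h0 | h0
    · omega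
    obtain ⟨t0, ⟨⟨ht0, r0, hr0, e0⟩, -⟩, h0'⟩ := cnt_pos.1 h0
    have hdd : h.dd a p = h.dd a y := eq_of_le_of_card_ge (fun g hg => ⟨hg.1, hy.1 g hg⟩)
      (h.card_dd hy.2.symm (hfar _ _ hLa hy.1) hp hp').le
    rw [card_eq_cnt, hdd]
    refine cnt_le_of_inj (fun t => t0 * t) ?_ fun _ _ _ _ e => mul_left_cancel e
    rintro t ⟨⟨⟨ht, r, hr, e1⟩, -⟩, e2⟩
    refine ⟨h.mem_ker_of_comm hx0.1 hx1 ?_ ?_, ?_⟩
    · rw [mul_smul, e2, ← h0', invol_smul ht0.1]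
    · rw [mul_assoc, h.iv_mul ht e1 (hker r hr _ hx0), ← mul_assoc,
        h.iv_mul ht0 e0 (inv_mem (hker r0 hr0 _ hx0)), inv_inv, mul_assoc]
    · change (t0 * t) • y = y
      rw [mul_smul, ← e2, invol_smul ht.1, h0', e2]

theorem caseA0 {a p : X} (hp : a ≠ p) {x0 : G} (hx0 : x0 ∈ h.dd a p) (hx1 : x0 ≠ 1) :
    k = 9 ∧ l = 6 ∧ c = 4 := by
  have hp' : ¬ adj a p := h.not_adj_of_ker hx0.1 hx1 hx0.1.1 hx0.2
  obtain ⟨M, hM⟩ : ∃ M, cnt (fun r => (∀ g ∈ h.dd a p, g • r = r) ∧ r ≠ a) = M := ⟨_, rfl⟩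
  have hM0 : 0 < M := hM ▸ cnt_pos.2 ⟨p, fun g hg => hg.2, hp.symm⟩
  obtain ⟨s, hs1, hs2⟩ := h.a0_inv hp hp' hx0 hx1 hM
  have hk := cnt_orbit_mul (fun (g : G) (y : X) => g • y) (one_smul G) mul_smul (h.ker a) p
  rw [h.card_ker, show cnt (fun g => g ∈ h.ker a ∧ g • p = p) = Nat.card (h.dd a p) from
    (card_eq_cnt (h.dd a p)).symm] at hk
  have h2 : 2 ≤ Nat.card (h.dd a p) := by
    rw [card_eq_cnt]
    exact two_le_cnt hx1 hx0 (one_mem _)
  have h3 : Nat.card (h.dd a p) * Nat.card (h.dd a p) ≤ k := by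
    obtain ⟨q, q', hq, hnq, hq', hnq', hqq⟩ := h.exists_adj_far a
    have := card_mul_le (A := h.dd a q) (B := h.dd a q') (E := h.ker a) inf_le_left inf_le_left
    rwa [show h.dd a q ⊓ h.dd a q' = ⊥ from eq_bot_iff.2 fun g hg => by
        by_contra hne
        exact h.not_adj_of_ker hg.1.1 hne hg.1.2 hg.2.2 hqq, card_bot, one_mul, h.card_ker,
      h.card_dd hq hnq hp hp', h.card_dd hq' hnq' hp hp'] at this
  obtain ⟨x, hx, hxp⟩ : ∃ x ∈ h.ker a, x • p ≠ p := by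
    by_contra hcon
    push Not at hcon
    have := card_le_of_le (show h.ker a ≤ h.dd a p from fun g hg => ⟨hg, hcon g hg⟩)
    rw [h.card_ker] at this
    nlinarith
  obtain ⟨c1, hc1, hc2⟩ := h.a0_c1 hp hp' hx0 hx1 hx hxp
  rw [hM] at hc1
  have h4 : cnt (fun t : G => (Iv t ∧ t • a = a) ∧ t • p = p) = 0 ∨
      (cnt (fun t : G => (Iv t ∧ t • a = a) ∧ t • p = p) ≤ Nat.card (h.dd a p) ∧
        2 * Nat.card (h.dd a p) ≤ d) := by
    refine (Nat.eq_zero_or_pos _).imp id fun h0 => ?_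
    obtain ⟨t0, ⟨ht0, e0⟩, e0'⟩ := cnt_pos.1 h0
    refine ⟨?_, ?_⟩
    · rw [card_eq_cnt]
      refine cnt_le_of_inj (fun t => t0 * t) (fun t ht => ⟨h.mul_ker ht0 e0 ht.1.1 ht.1.2, ?_⟩)
        fun _ _ _ _ e => mul_left_cancel e
      change (t0 * t) • p = p
      rw [mul_smul, ht.2, e0']
    · refine le_of_le_of_eq (two_mul_card_le (lt_of_le_of_ne
        (fun g hg => mem_st2.2 ⟨hg.1.1, hg.2⟩) fun e1 => ?_)) (h.hd hp hp')
      have : t0 ∈ h.dd a p := e1 ▸ (⟨e0, e0'⟩ : t0 ∈ st2 G a p)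
      exact h.not_ker ht0 this.1
  have hodd : Odd (Nat.card (h.dd a p)) := Nat.Odd.of_mul_right (hk ▸ h.odd_k)
  generalize Nat.card (h.dd a p) = d0 at *
  generalize cnt (fun z => ∃ g ∈ h.ker a, g • p = z) = k' at *
  generalize cnt (fun t : G => (Iv t ∧ t • a = a) ∧ t • p = p) = e at *
  have hkp := h.k_pos
  have h5 : d0 ≤ k' := by nlinarith
  rw [Nat.odd_iff] at hodd
  rcases h4 with rfl | ⟨h4, h6⟩
  · have : s = 0 := by simpa [hkp.ne'] using hs1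
    subst this
    have : k ≤ d0 := Nat.le_of_mul_le_mul_left (by nlinarith) hM0
    nlinarith
  have h7 : k' * s ≤ M := Nat.le_of_mul_le_mul_right (by nlinarith) (show 0 < d0 by omega)
  have h8 : (M + 1) * k' ≤ (k' + M) * (s + 1) :=
    Nat.le_of_mul_le_mul_right (by rw [← hk] at hs2; nlinarith) (show 0 < d0 by omega)
  have h9 : k' ≤ s + 2 := Nat.le_of_mul_le_mul_right (by nlinarith) hM0
  have h10 : 2 * M ≤ k' * c1 := Nat.le_of_mul_le_mul_right (by nlinarith) (show 0 < d0 by omega)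
  have h11 : 2 * s ≤ c1 := Nat.le_of_mul_le_mul_left (by nlinarith) (show 0 < k' by omega)
  obtain rfl : k' = 3 := by omega
  obtain rfl : d0 = 3 := by omega
  obtain rfl : k = 9 := by omega
  obtain rfl : M = 3 := by omega
  obtain rfl : d = 6 := by omega
  obtain ⟨a, m, ha, hk1, hm, hm0⟩ := h.exists_am'
  have h12 := h.mu_lt
  obtain rfl : m = 1 := by omega
  obtain rfl : mu = 6 := by omega
  have h13 := h.hld
  have h14 := h.two_le_c
  have h15 : c ≤ 8 := by omega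
  have h16 := h.ev
  rw [Nat.even_iff] at h16
  have h17 := h.srg
  interval_cases c
  · obtain rfl : lam = 6 := by omega
    obtain rfl : l = 3 := by omega
    obtain ⟨s, hs, -⟩ := h17 (by norm_num)
    have : s ^ 2 = 12 := by simpa using hs
    have h18 : s ≤ 3 := by nlinarith
    have h19 : -3 ≤ s := by nlinarith
    nlinarith
  · omega
  · omega
  · omega
  · omega
  · omega
  · obtain rfl : lam = 0 := by omega
    obtain rfl : l = 12 := by omega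
    obtain ⟨s, hs, -⟩ := h17 (by norm_num)
    have : s ^ 2 = 48 := by simpa using hs
    have h18 : s ≤ 6 := by nlinarith
    have h19 : -6 ≤ s := by nlinarith
    nlinarith

end PA

end Cfsg.Agent.R3
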