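import Cfsg.Agent.Lib.R3.CaseA0

/-!
# Even complement, semiregular kernel, odd stabilizer of a far pair
-/

set_option autoImplicit false

namespace Cfsg.Agent.R3

open Subgroup MulAction

universe u v

variable {G : Type u} [Group G] [Fintype G] {X : Type v} [MulAction G X] [Fintype X]
  {adj : X → X → Prop} {k l c d lam mu : ℕ}

namespace PA

variable (h : PA G adj k l c d lam mu)
include h

/-- the kernels are semiregular -/
def SR : Prop := ∀ x y g, g ∈ h.ker x → g • y = y → y ≠ x → g = 1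

theorem exists_r (H : h.SR) : ∃ r, l = k * r ∧ c = r * d := by
  obtain ⟨a⟩ := h.nonempty
  obtain ⟨r, hr⟩ := dvd_cnt_of_semireg (fun (g : G) (y : X) => g • y) (one_smul G) mul_smul
    (h.ker a) (fun y => y ≠ a ∧ ¬ adj a y) (fun g hg y hy => ⟨fun e => hy.1 (MulAction.injective g
      (e.trans hg.1.symm)), fun e => hy.2 ((h.smul_iff g).1 (by rwa [hg.1]))⟩)
    fun g hg y hy e => H a y g hg e hy.1
  rw [h.hl, h.card_ker] at hr
  refine ⟨r, hr, Nat.eq_of_mul_eq_mul_left h.k_pos ?_⟩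
  rw [← h.hld, hr, mul_assoc]

theorem iv_unique' (H : h.SR) {a b : X} (hb : b ≠ a) {z z' : G} (hz : Iv z) (ha : z • a = a)
    (e : z • b = b) (hz' : Iv z') (ha' : z' • a = a) (e' : z' • b = b) : z = z' := by
  have := H a b _ (h.mul_ker hz ha hz' ha') (by rw [mul_smul, e', e]) hb
  rw [eq_inv_of_mul_eq_one_left this, hz'.inv]

theorem v_eq {r : ℕ} (hr : l = k * r) {z : G} {x a b p : X} (hz : Iv z) (hx : z • x = x)
    (hb : adj a b) (hp : a ≠ p) (hp' : ¬ adj a p) :
    1 + k + l = cnt (fun y : X => z • y = y) * (1 + nc z a b + r * nc z a p) := by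
  have h1 := h.cls_fix z a
  rw [h.cls_eq z hb hp hp', h.nc_self hz hx, h.card_X] at h1
  refine Nat.eq_of_mul_eq_mul_right h.k_pos (h1.symm.trans ?_)
  rw [hr]
  ring

theorem caseA1 (H : h.SR) (hd : Odd d) : k = 3 ∧ l = 6 ∧ c = 2 := by
  obtain ⟨r, hl, hc⟩ := h.exists_r H
  obtain ⟨a, p, hp, hp'⟩ := h.exfar
  obtain ⟨b, hb⟩ := h.exists_adj a
  obtain ⟨z, hz, hza, hzb⟩ := h.exists_iv_adj hb
  have h1 := h.v_eq hl hz hza hb hp hp'
  rw [cnt_eq_two (h.ne hb) fun y => ⟨fun hy => ?_, by rintro (rfl | rfl) <;> assumption⟩] at h1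
  swap
  · by_contra hne
    push Not at hne
    by_cases hay : adj a y
    · exact hne.2 (h.nbr_unique hz.2 hza hay hb hy hzb)
    · have := even_of_iv (S := st2 G a y) hz ⟨hza, hy⟩
      rw [h.hd hne.1.symm hay] at this
      exact Nat.not_even_iff_odd.2 hd this
  have h2 := nc_le hz.1 a b
  have h3 := nc_le hz.1 a p
  rw [h.hc hb] at h2
  rw [h.hd hp hp'] at h3
  have h4 : Even r := by
    have := h.ev
    rw [hc] at this
    exact (Nat.even_mul.1 this).resolve_right (Nat.not_even_iff_odd.2 hd)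
  have h5 := h.two_le_c
  have h6 : 2 ≤ r := by
    obtain ⟨j, rfl⟩ := h4
    rcases j with _ | j
    · omega
    · omega
  obtain ⟨a', m, ha, hk1, hm, hm0⟩ := h.exists_am'
  have h7 : 1 + k + k * r ≤ 2 + 4 * c := by nlinarith [Nat.mul_le_mul_left r h3]
  have h8 : a' + m ≤ 1 := by
    by_contra h9
    nlinarith [Nat.mul_le_mul_left c (not_le.1 h9), Nat.mul_le_mul_left k h6]
  obtain rfl : m = 1 := by omega
  obtain rfl : a' = 0 := by omega
  obtain rfl : r = 2 := by
    by_contra h9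
    have : 3 ≤ r := by omega
    nlinarith [Nat.mul_le_mul_left k this]
  obtain rfl : lam = 0 := by omega
  obtain rfl : d = mu := by omega
  obtain rfl : c = 2 * d := hc
  obtain rfl : k = 2 * d + 1 := by omega
  obtain rfl : l = 4 * d + 2 := by omega
  have h9 : (2 * (2 * d + 1 : ℕ) + ((2 * d + 1 : ℕ) + (4 * d + 2 : ℕ)) * ((0 : ℕ) - d) : ℤ) =
      (d + 2) * (13 - 6 * d) - 24 := by
    push_cast
    ring
  obtain ⟨s, hs1, hs2⟩ := h.srg (by
    rw [h9]
    nlinarith)
  rw [h9] at hs2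
  have h10 : s ^ 2 = (d + 2) ^ 2 := by
    rw [hs1]
    push_cast
    ring
  have h11 : ((d : ℤ) + 2) ∣ 24 := by
    have : ((d : ℤ) + 2) ∣ s := by
      rcases sq_eq_sq_iff_eq_or_eq_neg.1 h10 with e | e <;> rw [e]
      exact dvd_rfl.neg_right
    exact (dvd_sub_right (dvd_mul_right _ _)).1 (this.trans hs2)
  have h12 := Int.le_of_dvd (by norm_num) h11
  have h13 : d ≤ 22 := by omega
  rw [Nat.odd_iff] at hd
  interval_cases d <;> first | omega | norm_num at h11

end PA

end Cfsg.Agent.R3
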