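import Cfsg.Agent.Lib.R3.CaseA1

/-!
# Even complement, semiregular kernel, even stabilizer of a far pair: lemmas
-/

set_option autoImplicit false

namespace Cfsg.Agent.R3

open Subgroup MulAction

universe u v

theorem not_four_dvd {G : Type u} [Group G] [Finite G] {S : Subgroup G} {z : G}
    (h : ∀ a ∈ S, a ^ 4 = 1 → a = 1 ∨ a = z) : ¬ 4 ∣ Nat.card S := by
  intro h4
  obtain ⟨T, hT⟩ := Sylow.exists_subgroup_card_pow_prime (G := S) 2 (n := 2) h4
  have := Fintype.ofFinite S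
  have := Fintype.ofFinite G
  have h1 : cnt (· ∈ T) ≤ cnt (fun a : G => a = 1 ∨ a = z) :=
    cnt_le_of_inj (fun a : S => (a : G)) (fun a ha => h a a.2 (by
      have := pow_card_eq_one' (G := T) (x := ⟨a, ha⟩)
      rw [hT] at this
      exact congrArg (fun t : T => ((t : S) : G)) this)) fun _ _ _ _ e => Subtype.ext e
  rw [← card_eq_cnt, hT] at h1
  by_cases e : (1 : G) = z
  · rw [cnt_eq_one (1 : G) fun x => by simp [← e]] at h1
    omega
  · rw [cnt_eq_two e fun _ => Iff.rfl] at h1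
    omega

variable {G : Type u} [Group G] [Fintype G] {X : Type v} [MulAction G X] [Fintype X]
  {adj : X → X → Prop} {k l c d lam mu : ℕ}

namespace PA

variable (h : PA G adj k l c d lam mu)
include h

theorem a2_iv (hd : Even d) {x y : X} (hxy : x ≠ y) : ∃ z : G, Iv z ∧ z • x = x ∧ z • y = y := by
  by_cases e : adj x y
  · exact h.exists_iv_adj e
  · obtain ⟨z, hz, hz'⟩ := exists_iv (S := st2 G x y) (by rwa [h.hd hxy e])
    exact ⟨z, hz', hz⟩

theorem a2_fix (H : h.SR) (hd : Even d) {r : ℕ} (hr : l = k * r) {z : G} {a : X} (hz : Iv z)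
    (ha : z • a = a) : cnt (fun y : X => z • y = y) = r + 2 := by
  have h1 := cnt_mul_eq (p := fun t : G => Iv t ∧ t • a = a) (q := fun y : X => y ≠ a)
    (fun t y => t • y = y) (m := cnt (fun y : X => y ≠ a ∧ z • y = y)) (n := 1) (fun t ht => by
      obtain ⟨w, hw, rfl⟩ := h.iv_conj hz ha ht.1 ht.2
      refine (cnt_smul w fun y => ?_).symm
      rw [conj_smul_iff, Ne, Ne, smul_eq_iff_eq_inv_smul w, (inv_mem hw).1]) fun y hy => by
      obtain ⟨t, ht, e1, e2⟩ := h.a2_iv hd hy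
      exact cnt_eq_one t fun s => ⟨fun hs => h.iv_unique' H hy hs.1.1 hs.1.2 hs.2 ht e2 e1,
        fun e => e ▸ ⟨⟨ht, e2⟩, e1⟩⟩
  have h2 := h.card_X
  rw [← cnt_true, cnt_erase (a := a) trivial, cnt_congr (q := fun y : X => y ≠ a) (by simp)] at h2
  rw [h.cnt_iv] at h1
  rw [cnt_erase (p := fun y : X => z • y = y) ha, cnt_congr fun y => and_comm,
    Nat.eq_of_mul_eq_mul_left h.k_pos (show k * cnt (fun y : X => y ≠ a ∧ z • y = y) =
      k * (r + 1) by rw [h1, mul_add, ← hr]; omega)]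

theorem even_fix {z : G} (hz : Iv z) : Even (cnt (fun y : X => z • y = y)) := by
  have hex := fun y => h.exists_nbr (a := y) hz
  choose! m hm using hex
  exact even_cnt_of_invol m (fun y hy => (hm y hy).2)
    (fun y hy => h.nbr_unique hz.2 (hm y hy).2 (hm _ (hm y hy).2).1 (h.symm (hm y hy).1)
      (hm _ (hm y hy).2).2 hy) fun y hy => (h.ne (hm y hy).1).symm

theorem far_fix {z : G} {a : X} (hz : Iv z) (ha : z • a = a) :
    cnt (fun y : X => z • y = y) = cnt (fun y : X => z • y = y ∧ y ≠ a ∧ ¬ adj a y) + 2 := by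
  obtain ⟨b, hb, e⟩ := h.exists_nbr hz ha
  rw [h.cnt_three a, cnt_eq_one a fun y => ⟨fun hy => hy.2, fun e => ⟨e ▸ ha, e⟩⟩,
    cnt_eq_one b fun y => ⟨fun hy => h.nbr_unique hz.2 ha hy.2 hb hy.1 e, fun e1 => e1 ▸ ⟨e, hb⟩⟩]
  ring

/-- number of elements of the kernel moving a point to a neighbour -/
noncomputable def aa (a p : X) : ℕ := cnt (fun y : G => y ∈ h.ker a ∧ adj (y • p) p)

theorem aa_eq {x y x' y' : X} (h1 : x ≠ y) (h1' : ¬ adj x y) (h2 : x' ≠ y') (h2' : ¬ adj x' y') :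
    h.aa x y = h.aa x' y' := by
  obtain ⟨g, rfl, rfl⟩ := h.tr2 h1 h1' h2 h2'
  exact cnt_conj g fun t => by rw [← h.ker_conj_iff, conj_smul_smul, h.smul_iff]

theorem d_dvd_aa (H : h.SR) {a p : X} (hp : a ≠ p) (hp' : ¬ adj a p) : d ∣ h.aa a p := by
  refine (h.hd hp hp').symm.dvd.trans ?_
  refine dvd_cnt_of_semireg (fun g e : G => g * e * g⁻¹) (by simp) (fun a b y => by group) _ _
    (fun g hg y hy => ⟨h.conj_mem' hy.1 hg.1, ?_⟩) fun g hg y hy e => H a p g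
      (h.mem_ker_of_comm hy.1 (fun e => h.irr p (by simpa [e] using hy.2)) hg.1
        (mul_inv_eq_iff_eq_mul.1 e)) hg.2 hp.symm
  have := h.smul g hy.2
  rwa [← conj_smul_smul, show g • p = p from hg.2] at this

theorem alpha (H : h.SR) (hd : Even d) (hlam : lam = 0) {r : ℕ} (hr : l = k * r) {z : G} {a p : X}
    (hz : Iv z) (ha : z • a = a) (hp : a ≠ p) (hp' : ¬ adj a p) :
    cnt (fun x : X => adj x (z • x)) = r * h.aa a p := by
  have h1 := sum_cnt_comm (fun x : X => adj x (z • x)) (fun R : X => z • R = R ∧ R ≠ a)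
    (fun x R => ∃ y ∈ h.ker a, y • R = x)
  have h2 : ∀ R, z • R = R → R ≠ a →
      cnt (fun x => adj x (z • x) ∧ ∃ y ∈ h.ker a, y • R = x) = h.aa a R := by
    intro R hR hRa
    have e1 : ∀ y ∈ h.ker a, adj (y • R) (z • y • R) ↔ adj ((y * y) • R) R := fun y hy => by
      rw [← mul_smul z, h.iv_mul hz ha hy, mul_smul y⁻¹, hR, ← h.smul_iff y, smul_inv_smul,
        mul_smul]
    refine (cnt_bij (p := fun y => y ∈ h.ker a ∧ adj ((y * y) • R) R) (fun y => y • R)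
      (fun y hy => ⟨(e1 y hy.1).2 hy.2, y, hy.1, rfl⟩) (fun y y' hy hy' e => ?_) ?_).symm.trans ?_
    · exact inv_mul_eq_one.1 (H a R _ (mul_mem (inv_mem hy.1) hy'.1) (by
        rw [mul_smul, ← show y • R = y' • R from e, inv_smul_smul]) hRa)
    · rintro _ ⟨hx, y, hy, rfl⟩
      exact ⟨y, ⟨hy, (e1 y hy).1 hx⟩, rfl⟩
    · refine cnt_bij (fun y => y * y) (fun y hy => ⟨mul_mem hy.1 hy.1, hy.2⟩)
        (fun y y' hy hy' e => h.sq_inj hy.1 hy'.1 e) fun y hy => ?_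
      obtain ⟨w, hw, rfl⟩ := h.exists_sqrt le_rfl hy.1
      exact ⟨w, ⟨hw, hy.2⟩, rfl⟩
  rw [sum_ite_const (m := 1), mul_one, sum_ite_split _ (adj a), sum_ite_const (m := 0),
    sum_ite_const (m := h.aa a p)] at h1
  · have h3 := h.far_fix hz ha
    rw [h.a2_fix H hd hr hz ha, add_left_inj] at h3
    rw [h1, h3, mul_zero, zero_add, cnt_congr fun y => and_assoc]
  · exact fun R hR => (h2 R hR.1.1 hR.1.2).trans (h.aa_eq hR.1.2.symm hR.2 hp hp')
  · intro R hR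
    refine (h2 R hR.1.1 hR.1.2).trans (cnt_eq_zero fun y hy => ?_)
    have h3 := h.hlam hR.2
    rw [hlam] at h3
    exact (cnt_pos.2 ⟨y • R, by simpa [hy.1.1] using h.smul y hR.2, h.symm hy.2⟩).ne' h3
  · intro x hx
    have hxa : x ≠ a := fun e => h.irr a (by simpa [e, ha] using hx)
    obtain ⟨t, ht, e1, e2⟩ := h.a2_iv hd hxa
    obtain ⟨w, hw, rfl⟩ := h.iv_conj hz ha ht e2
    have hR : z • w⁻¹ • x = w⁻¹ • x := by
      rwa [mul_smul, mul_smul, smul_eq_iff_eq_inv_smul] at e1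
    refine cnt_eq_one (w⁻¹ • x) fun R => ⟨?_, fun e => e ▸ ⟨⟨hR, fun e => hxa ?_⟩, w, hw, by simp⟩⟩
    · rintro ⟨⟨h3, -⟩, y, hy, rfl⟩
      have hu := mul_mem (inv_mem hw) hy
      rw [← mul_smul w⁻¹] at hR ⊢
      refine (h.fix_of_sq hu ?_).symm
      rw [← mul_smul, h.iv_mul hz ha hu, mul_smul, h3, inv_smul_eq_iff] at hR
      rw [mul_smul, ← hR]
    · rw [inv_smul_eq_iff.1 e, hw.1]

theorem fix_mul_n1 {z : G} {x a b : X} (hz : Iv z) (hx : z • x = x) (hb : adj a b) :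
    cnt (fun y : X => z • y = y) * nc z a b = cnt (fun x : X => adj x (z • x)) := by
  have h1 := h.cls_fix z a
  have h2 := h.cls_adj z hb
  rw [h.nc_self hz hx] at h1
  refine Nat.eq_of_mul_eq_mul_left (cnt_pos.2 ⟨z, IsConj.refl z⟩) ?_
  rw [h2, ← mul_assoc, h1, mul_assoc]

theorem aa_ineq (H : h.SR) (hlam : lam = 0) {a p : X} (hp : a ≠ p) (hp' : ¬ adj a p) :
    ∃ n, 1 + h.aa a p + n = k ∧ h.aa a p * h.aa a p + mu * mu ≤ h.aa a p + mu + n * mu := by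
  set O : X → Prop := fun y => ∃ w ∈ h.ker a, w • p = y with hO
  have hinj : ∀ y y', y ∈ h.ker a → y' ∈ h.ker a → y • p = y' • p → y = y' := fun y y' hy hy' e =>
    inv_mul_eq_one.1 (H a p _ (mul_mem (inv_mem hy) hy') (by
      rw [mul_smul, ← e, inv_smul_smul]) hp.symm)
  have hOk : cnt O = k := by
    refine Eq.trans ?_ (h.card_ker a)
    rw [card_eq_cnt]
    exact (cnt_bij (fun y => y • p) (fun y hy => ⟨y, hy, rfl⟩) hinj fun _ hy => hy).symm
  have hOw : ∀ w ∈ h.ker a, ∀ y, O y ↔ O (w • y) := fun w hw y =>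
    ⟨fun ⟨u, hu, e⟩ => ⟨w * u, mul_mem hw hu, by rw [mul_smul, e]⟩,
      fun ⟨u, hu, e⟩ => ⟨w⁻¹ * u, mul_mem (inv_mem hw) hu, by rw [mul_smul, e, inv_smul_smul]⟩⟩
  have hOf : ∀ y, O y → a ≠ y ∧ ¬ adj a y := by
    rintro _ ⟨w, hw, rfl⟩
    exact ⟨fun e => hp (MulAction.injective w (hw.1.trans e)),
      fun e => hp' ((h.smul_iff w).1 (by rwa [hw.1]))⟩
  have hOp : O p := ⟨1, one_mem _, one_smul _ _⟩
  have h0 : cnt (fun y => O y ∧ adj p y) = h.aa a p :=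
    (cnt_bij (fun y => y • p) (fun y hy => ⟨⟨y, hy.1, rfl⟩, h.symm hy.2⟩)
      (fun y y' hy hy' => hinj y y' hy.1 hy'.1) (by
        rintro _ ⟨⟨w, hw, rfl⟩, e⟩
        exact ⟨w, ⟨hw, h.symm e⟩, rfl⟩)).symm
  have h1 : ∀ q, O q → cnt (fun y => O y ∧ adj q y) = h.aa a p := by
    rintro _ ⟨w, hw, rfl⟩
    rw [← h0]
    exact (cnt_smul w fun y => by rw [← hOw w hw, h.smul_iff]).symm
  have h2 : ∀ q, adj a q → cnt (fun y => O y ∧ adj q y) = mu := by
    intro q hq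
    have := cnt_mul_eq (p := adj a) (q := O) adj (m := cnt (fun y => O y ∧ adj q y)) (n := mu)
      (fun q' hq' => by
        obtain ⟨w, hw, rfl⟩ := h.ker_trans hq hq'
        exact (cnt_smul w fun y => by rw [← hOw w hw, h.smul_iff]).symm) fun y hy => by
        refine Eq.trans ?_ (h.hmu (hOf y hy).1 (hOf y hy).2)
        exact cnt_congr fun x => and_congr_right' ⟨h.symm, h.symm⟩
    rw [hOk, show cnt (adj a) = k from h.hk a] at this
    exact Nat.eq_of_mul_eq_mul_left h.k_pos this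
  have h3 := h.cnt_three p O
  rw [hOk, h0, cnt_eq_one p fun y => ⟨fun hy => hy.2, fun e => ⟨e ▸ hOp, e⟩⟩] at h3
  refine ⟨_, h3.symm, ?_⟩
  have h4 := sum_cnt_comm (adj p) O adj
  rw [sumIf_erase hOp, sum_ite_split (fun x => O x ∧ x ≠ p) (adj p),
    sum_ite_const (p := fun x => (O x ∧ x ≠ p) ∧ adj p x) (m := 0) (fun x hx => by
      refine Eq.trans ?_ ((h.hlam hx.2).trans hlam)
      exact cnt_congr fun y => and_congr_right' ⟨h.symm, h.symm⟩),
    sum_ite_const (p := fun x => (O x ∧ x ≠ p) ∧ ¬ adj p x) (m := mu) (fun x hx => by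
      refine Eq.trans ?_ (h.hmu hx.1.2.symm hx.2)
      exact cnt_congr fun y => and_congr_right' ⟨h.symm, h.symm⟩),
    sum_ite_split (adj p) O, sum_ite_split (fun x => adj p x ∧ ¬ O x) (adj a),
    sum_ite_const (p := fun x => adj p x ∧ O x) (fun x hx => h1 x hx.2),
    sum_ite_const (p := fun x => (adj p x ∧ ¬ O x) ∧ adj a x) (fun x hx => h2 x hx.2),
    cnt_congr (p := fun x => adj p x ∧ adj x p) (q := adj p)
      (fun x => ⟨fun e => e.1, fun e => ⟨e, h.symm e⟩⟩),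
    cnt_congr (p := fun x => (O x ∧ x ≠ p) ∧ ¬ adj p x) (fun x => and_assoc)] at h4
  have h5 := le_sum_ite (p := fun x => (adj p x ∧ ¬ O x) ∧ ¬ adj a x)
    (f := fun x => cnt fun y => O y ∧ adj x y) (m := 1)
    fun x hx => cnt_pos.2 ⟨p, hOp, h.symm hx.1.1⟩
  have h6 := cnt_split (adj p) O
  rw [cnt_split (fun x => adj p x ∧ ¬ O x) (adj a)] at h6
  have h7 : cnt (fun x => adj p x ∧ O x) = h.aa a p := (cnt_congr fun x => and_comm).trans h0
  have h8 : cnt (fun x => (adj p x ∧ ¬ O x) ∧ adj a x) = mu := by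
    refine Eq.trans ?_ (h.hmu hp hp')
    exact cnt_congr fun x => ⟨fun e => ⟨e.2, e.1.1⟩, fun e => ⟨⟨e.2, fun e1 => (hOf x e1).2 e.1⟩, e.1⟩⟩
  rw [h7, h8] at h4 h6
  omega

theorem beta (H : h.SR) (hd : Even d) (hlam : lam = 0) (hmu : mu = d) (hk : k = c + 1) {t : G}
    {a q y y' : X} (ht : Iv t) (ha : t • a = a) (hq : adj a q) (hq' : t • q ≠ q)
    (hy : (t • y = y ∧ y ≠ a) ∧ adj q y) (hy' : (t • y' = y' ∧ y' ≠ a) ∧ adj q y') : y = y' := by
  obtain ⟨r, hl, hc⟩ := h.exists_r H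
  obtain ⟨b, hb, hb'⟩ := h.exists_nbr ht ha
  have tri : ∀ x y z, adj x y → adj x z → ¬ adj y z := fun x y z h1 h2 h3 =>
    (cnt_pos.2 ⟨z, h2, h3⟩).ne' ((h.hlam h1).trans hlam)
  have h1 := sum_cnt_comm (fun x => adj a x ∧ t • x ≠ x) (fun y => t • y = y ∧ y ≠ a) adj
  have h2 : cnt (fun x => (adj a x ∧ t • x ≠ x) ∧ x ≠ q) + 1 = c := by
    have := h.hk a
    rw [cnt_erase hb, cnt_congr (p := fun x => adj a x ∧ x ≠ b)
      (q := fun x => adj a x ∧ t • x ≠ x) fun x => and_congr_right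
      fun hx => not_congr ⟨fun e => e ▸ hb', fun e => h.nbr_unique ht.2 ha hx hb e hb'⟩,
      cnt_erase (a := q) ⟨hq, hq'⟩] at this
    omega
  have h3 := le_sum_ite (p := fun x => (adj a x ∧ t • x ≠ x) ∧ x ≠ q)
    (f := fun x => cnt fun y => (t • y = y ∧ y ≠ a) ∧ adj x y) (m := 1) fun x hx => by
      have hx' : adj a (t • x) := by simpa [ha] using h.smul t hx.1.1
      have h4 := h.hmu hx.1.2.symm (tri _ _ _ hx.1.1 hx')
      rw [cnt_erase (a := a) ⟨h.symm hx.1.1, h.symm hx'⟩, hmu] at h4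
      by_contra h5
      have h6 := even_cnt_of_invol (p := fun y => (adj x y ∧ adj (t • x) y) ∧ y ≠ a)
        (fun y => t • y) (fun y hy => ⟨⟨by simpa [invol_smul ht.1] using h.smul t hy.1.2,
          h.smul t hy.1.1⟩, fun e => hy.2 (MulAction.injective t (e.trans ha.symm))⟩)
        (fun y _ => invol_smul ht.1 y) fun y hy e => h5 (cnt_pos.2 ⟨y, ⟨e, hy.2⟩, hy.1.1⟩)
      rw [← h4] at hd
      exact Nat.not_even_iff_odd.2 h6.add_one hd
  have h4 := sum_ite_le (p := fun y => (t • y = y ∧ y ≠ a) ∧ ¬ adj a y)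
    (f := fun y => cnt fun x => (adj a x ∧ t • x ≠ x) ∧ adj x y) (m := d) fun y hy =>
      le_of_le_of_eq (cnt_mono fun x hx => ⟨hx.1.1, h.symm hx.2⟩)
        ((h.hmu hy.1.2.symm hy.2).trans hmu)
  have h5 := h.far_fix ht ha
  rw [h.a2_fix H hd hl ht ha, add_left_inj] at h5
  rw [cnt_congr fun y => and_assoc, ← h5, ← hc] at h4
  rw [sumIf_erase (a := q) ⟨hq, hq'⟩, sum_ite_split (fun y => t • y = y ∧ y ≠ a) (adj a),
    sum_ite_const (p := fun y => (t • y = y ∧ y ≠ a) ∧ adj a y) (m := 0)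
      fun y hy => cnt_eq_zero fun x hx => tri _ _ _ hx.1.1 hy.2 hx.2] at h1
  by_contra hne
  have := two_le_cnt (p := fun y => (t • y = y ∧ y ≠ a) ∧ adj q y) hne hy hy'
  omega

theorem n2_eq (H : h.SR) (hd : Even d) (hlam : lam = 0) (hmu : mu = d) (hk : k = c + 1) {z : G}
    {R R' : X} (hz : Iv z) (hR : z • R = R) (hR' : z • R' = R') (hne : R ≠ R') (hf : ¬ adj R R') :
    ∃ n, 2 * nc z R R' = d + 2 * n ∧ (n = 0 ∨ ∃ j, n * (2 * j) = d ∧ Odd j) := by
  obtain ⟨q, hq, hq'⟩ := cnt_pos.1 (h.mupos.trans_eq (h.hmu hne hf).symm)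
  obtain ⟨t, ht, htq, htR⟩ := h.exists_swap (h.symm hq) (h.symm hq')
  have htR' : t • R' = R := by rw [← htR, invol_smul ht.1]
  have hsemi : ∀ x ∈ st2 G R R', x • q = q → x = 1 := fun x hx e =>
    h.semi (h.symm hq) (h.symm hq') hne e hx.1 hx.2
  have hu : ∀ x ∈ st2 G R R', x ^ 2 = 1 → x = 1 ∨ x = z := fun x hx e =>
    or_iff_not_imp_left.2 fun e1 => h.iv_unique' H hne.symm ⟨by rwa [← pow_two], e1⟩ hx.1 hx.2
      hz hR hR'
  have hcz : ∀ s : G, s • R = R' → s • R' = R → s * z = z * s := fun s e1 e2 =>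
    mul_inv_eq_iff_eq_mul.1 (h.iv_unique' H hne.symm (hz.conj' s)
      (by conv_lhs => rw [← e2, conj_smul_smul, hR', e2])
      (by conv_lhs => rw [← e1, conj_smul_smul, hR, e1]) hz hR hR')
  have hc : ∀ x ∈ st2 G R R', t * x = x * t → x = 1 ∨ x = z := fun x hx e =>
    or_iff_not_imp_left.2 fun e1 => by
      have key : ∀ x ∈ st2 G R R', t * x = x * t → x ≠ 1 →
          (t • x • q = x • q ∧ x • q ≠ q) ∧ adj R (x • q) := fun x hx e e1 =>
        ⟨⟨by rw [← mul_smul, e, mul_smul, htq], fun e2 => e1 (hsemi x hx e2)⟩,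
          by simpa [show x • R = R from hx.1] using h.smul x hq⟩
      have := h.beta H hd hlam hmu hk ht htq (h.symm hq) (by rw [htR]; exact hne.symm)
        (key x hx e e1) (key z ⟨hR, hR'⟩ (hcz t htR htR') hz.2)
      exact (inv_mul_eq_one.1 (hsemi _ (mul_mem (inv_mem (show z ∈ st2 G R R' from ⟨hR, hR'⟩)) hx)
        (by rw [mul_smul, this, inv_smul_smul]))).symm
  obtain ⟨t', h1, h2⟩ := two_class (D := st2 G R R') ht.1 (fun e => hne (e.1.symm.trans htR))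
    (fun x hx => ⟨by
      change (t * x * t) • R = R
      rw [mul_smul, mul_smul, htR, hx.2, htR'], by
      change (t * x * t) • R' = R'
      rw [mul_smul, mul_smul, htR', hx.1, htR]⟩) ⟨hR, hR'⟩ hz.2 hz.1 hu hc
  have horb := fun s : G => cnt_orbit_mul (fun g e : G => g * e * g⁻¹) (by simp)
    (fun a b y => by group) (st2 G R R') s
  simp only [h.hd hne hf] at horb
  have hS : ∀ s, IsConj z s ∧ s • R = R' → ∀ g ∈ st2 G R R',
      IsConj z (g * s * g⁻¹) ∧ (g * s * g⁻¹) • R = R' := fun s hs g hg =>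
    ⟨hs.1.trans (isConj_iff.2 ⟨g, rfl⟩), by
      conv_lhs => rw [← show g • R = R from hg.1, conj_smul_smul, hs.2, hg.2]⟩
  have hS2 : ∀ s, IsConj z s ∧ s • R = R' → s • R' = R := fun s hs => by
    rw [← hs.2, invol_smul (hz.conj hs.1).1]
  have hS3 : ∀ s, IsConj z s ∧ s • R = R' → t * s ∈ st2 G R R' := fun s hs => ⟨by
    change (t * s) • R = R
    rw [mul_smul, hs.2, htR'], by
    change (t * s) • R' = R'
    rw [mul_smul, hS2 s hs, htR]⟩
  have htS : IsConj z t ∧ t • R = R' := ⟨h.isConj_iv hz hR ht htq, htR⟩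
  have h3 := horb t
  rw [cnt_eq_two (p := fun g => g ∈ st2 G R R' ∧ g * t * g⁻¹ = t) hz.2.symm fun x =>
    ⟨fun hx => hc x hx.1 (mul_inv_eq_iff_eq_mul.1 hx.2).symm, by
      rintro (rfl | rfl)
      · exact ⟨one_mem _, by simp⟩
      · exact ⟨⟨hR, hR'⟩, by rw [← hcz t htR htR', mul_inv_cancel_right]⟩⟩] at h3
  have h4 := cnt_split (fun s => IsConj z s ∧ s • R = R') (fun s => ∃ g ∈ st2 G R R', g * t * g⁻¹ = s)
  rw [cnt_congr (p := fun s => (IsConj z s ∧ s • R = R') ∧ ∃ g ∈ st2 G R R', g * t * g⁻¹ = s)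
    fun s => ⟨fun hs => hs.2, fun ⟨g, hg, e⟩ => ⟨e ▸ hS t htS g hg, g, hg, e⟩⟩] at h4
  refine ⟨cnt fun s => (IsConj z s ∧ s • R = R') ∧ ¬ ∃ g ∈ st2 G R R', g * t * g⁻¹ = s,
    by rw [nc, h4, mul_add, mul_comm 2, h3], ?_⟩
  refine (Nat.eq_zero_or_pos _).imp id fun h0 => ?_
  obtain ⟨s1, hs1, hs1'⟩ := cnt_pos.1 h0
  have h5 := horb s1
  have hcl : ∀ s, IsConj z s ∧ s • R = R' → (¬ ∃ g ∈ st2 G R R', g * t * g⁻¹ = s) →
      ∃ b ∈ st2 G R R', s = b⁻¹ * t' * b := fun s hs hs' => by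
    obtain ⟨b, hb, e | e⟩ := h1 s (hz.conj hs.1).1 (hS3 s hs)
    · exact absurd ⟨b⁻¹, inv_mem hb, by rw [e, inv_inv]⟩ hs'
    · exact ⟨b, hb, e⟩
  rw [← cnt_congr (p := fun s => (IsConj z s ∧ s • R = R') ∧ ¬ ∃ g ∈ st2 G R R', g * t * g⁻¹ = s)
    fun s => ⟨fun hs => ?_, ?_⟩] at h5
  · have h6 : cnt (fun g => g ∈ st2 G R R' ∧ g * s1 * g⁻¹ = s1) =
        Nat.card (st2 G R R' ⊓ centralizer {s1} : Subgroup G) := by
      rw [card_eq_cnt]
      exact cnt_congr fun g => and_congr_right' (by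
        rw [mul_inv_eq_iff_eq_mul]
        exact mem_centralizer_singleton_iff.symm)
    obtain ⟨j, hj⟩ := even_of_iv (S := st2 G R R' ⊓ centralizer {s1}) hz ⟨⟨hR, hR'⟩,
      mem_centralizer_singleton_iff.2 (hcz s1 hs1.2 (hS2 s1 hs1)).symm⟩
    have h7 := not_four_dvd (S := st2 G R R' ⊓ centralizer {s1}) (z := z) fun a ha e =>
      hu a ha.1 (h2 s1 (hz.conj hs1.1).1 (hS3 s1 hs1) a ha.1
        (mem_centralizer_singleton_iff.1 ha.2).symm e)
    rw [h6, hj, ← two_mul] at h5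
    refine ⟨j, h5, ?_⟩
    rw [Nat.odd_iff]
    omega
  · obtain ⟨b, hb, e⟩ := hcl s hs.1 hs.2
    obtain ⟨b1, hb1, e1⟩ := hcl s1 hs1 hs1'
    exact ⟨b⁻¹ * b1, mul_mem (inv_mem hb) hb1, by rw [e, e1]; group⟩
  · rintro ⟨g, hg, rfl⟩
    exact ⟨hS s1 hs1 g hg, fun ⟨g', hg', e⟩ => hs1' ⟨g⁻¹ * g', mul_mem (inv_mem hg) hg', by
      calc g⁻¹ * g' * t * (g⁻¹ * g')⁻¹ = g⁻¹ * (g' * t * g'⁻¹) * g := by group
        _ = s1 := by rw [e]; group⟩⟩

end PA

end Cfsg.Agent.R3
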