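import Cfsg.Agent.Lib.R3.CaseA2

/-!
# Even complement, semiregular kernel, even stabilizer of a far pair: numerics
-/

set_option autoImplicit false

namespace Cfsg.Agent.R3

open Subgroup MulAction

universe u v

theorem not_sq_between {s n : ℤ} (hn : 0 ≤ n) (h1 : n ^ 2 < s ^ 2) (h2 : s ^ 2 < (n + 1) ^ 2) :
    False := by
  have h3 := abs_lt_of_sq_lt_sq h2 (by omega)
  have h4 : n < |s| := lt_of_pow_lt_pow_left₀ 2 (abs_nonneg s) (by rwa [sq_abs])
  omega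

theorem num11 {s y d : ℤ} (hd : 2 ≤ d) (hy : d ≤ y) (h : s ^ 2 = (y + 4) ^ 2 + 4 * d - 12)
    (he : Even d) : False := by
  rcases eq_or_lt_of_le hd with rfl | hd
  · exact not_sq_between (s := s) (n := y + 3) (by omega) (by nlinarith) (by nlinarith)
  have h4 : 4 ≤ d := by
    obtain ⟨j, rfl⟩ := he
    omega
  rcases lt_trichotomy (s ^ 2) ((y + 5) ^ 2) with h1 | h1 | h1
  · exact not_sq_between (s := s) (n := y + 4) (by omega) (by nlinarith)
      (by rwa [show y + 4 + 1 = y + 5 by ring])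
  · have : 4 * d - 12 = 2 * y + 9 := by nlinarith
    omega
  · exact not_sq_between (s := s) (n := y + 5) (by omega) h1 (by nlinarith)

theorem num14 {s d : ℤ} (hd : 6 ≤ d) (h : s ^ 2 = (d + 6) ^ 2 - 32) : False := by
  rcases lt_trichotomy (s ^ 2) ((d + 5) ^ 2) with h1 | h1 | h1
  · exact not_sq_between (s := s) (n := d + 4) (by omega) (by nlinarith)
      (by rwa [show d + 4 + 1 = d + 5 by ring])
  · have : 2 * d + 11 = 32 := by nlinarith
    omega
  · exact not_sq_between (s := s) (n := d + 5) (by omega) h1 (by nlinarith)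

theorem num02 {d ρ σ n n2 : ℕ} (hd2 : 2 ≤ d) (h3 : n2 ≤ d)
    (h9 : d * 2 * (2 * ρ + 3) = d * σ + (2 * ρ + 4) * n2) (h10 : d * σ + n = (2 * ρ + 2) * d * 2)
    (h11 : d * σ * σ + d * 2 * 2 ≤ σ + 2 + n * 2) : False := by
  have h12 : 2 * ρ + 2 ≤ σ := Nat.le_of_mul_le_mul_left
    (by nlinarith [Nat.mul_le_mul_left (2 * ρ + 4) h3]) (show 0 < d by omega)
  have h13 : d * (σ * σ + 4) ≤ σ + 2 + d * (2 * σ) := by
    nlinarith [Nat.mul_le_mul_left d h12]
  obtain ⟨τ, rfl⟩ : ∃ τ, σ = τ + 2 := ⟨σ - 2, by omega⟩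
  nlinarith [Nat.mul_le_mul_right (τ * τ + 2 * τ + 4) hd2]

theorem num01 {d ρ σ n n2 n' : ℕ} (hd2 : 2 ≤ d)
    (h9 : d * 1 * (2 * ρ + 3) = d * σ + (2 * ρ + 4) * n2) (h10 : d * σ + n = (2 * ρ + 2) * d * 1)
    (h11 : d * σ * σ + d * 1 * 1 ≤ σ + 1 + n * 1) (h12 : 2 * n2 = d + 2 * n')
    (h13 : n' = 0 ∨ ∃ j, n' * (2 * j) = d ∧ Odd j) : (ρ = 0 ∧ d = 2) ∨ (ρ = 1 ∧ 6 ≤ d) := by
  have h14 : d * (σ * σ + σ + 1) ≤ σ + 1 + d * (2 * ρ + 2) := by nlinarith
  rcases h13 with rfl | ⟨j, h13, hj⟩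
  · have h15 : σ = ρ + 1 := Nat.eq_of_mul_eq_mul_left (show 0 < 2 * d by omega) (by nlinarith)
    subst h15
    obtain rfl : ρ = 0 := by
      by_contra h16
      nlinarith [Nat.mul_le_mul_right (ρ * ρ + ρ + 1) hd2, Nat.pos_of_ne_zero h16]
    omega
  · have hn' : 0 < n' := Nat.pos_of_ne_zero fun e => by
      rw [e] at h13
      omega
    have h15 : n2 = n' * j + n' := by nlinarith
    have h16 : j * (ρ + 1) = j * σ + ρ + 2 :=
      Nat.eq_of_mul_eq_mul_left (show 0 < 2 * n' by omega) (by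
        rw [h15, ← h13] at h9
        nlinarith)
    obtain ⟨u, hu⟩ : ∃ u, ρ = σ + u := ⟨ρ - σ, by
      have : σ < ρ + 1 := lt_of_mul_lt_mul_left (a := j) (by omega) (Nat.zero_le _)
      omega⟩
    obtain ⟨i, rfl⟩ := hj
    subst hu
    have h17 : 2 * (i * (u + 1)) = σ + 1 := by nlinarith
    have hi : 0 < i := Nat.pos_of_ne_zero fun e => by
      rw [e] at h17
      omega
    have h18 : 6 ≤ d := by nlinarith
    have h19 : 2 * (u + 1) ≤ σ + 1 := by nlinarith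
    have h20 : σ ≤ 2 := by
      by_contra h21
      obtain ⟨τ, rfl⟩ : ∃ τ, σ = τ + 3 := ⟨σ - 3, by omega⟩
      nlinarith [Nat.mul_le_mul_left d h19, Nat.mul_le_mul_right (τ * τ + 4 * τ + 3) h18]
    omega

variable {G : Type u} [Group G] [Fintype G] {X : Type v} [MulAction G X] [Fintype X]
  {adj : X → X → Prop} {k l c d lam mu : ℕ}

namespace PA

variable (h : PA G adj k l c d lam mu)
include h

set_option maxHeartbeats 1000000 in
theorem caseA2 (H : h.SR) (hd : Even d) : k = 5 ∧ l = 10 ∧ c = 4 := by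
  obtain ⟨r, hl, hc⟩ := h.exists_r H
  obtain ⟨a, p, hp, hp'⟩ := h.exfar
  obtain ⟨b, hb⟩ := h.exists_adj a
  obtain ⟨z, hz, hza, hzp⟩ := h.a2_iv hd hp
  have h1 := h.v_eq hl hz hza hb hp hp'
  have hf := h.a2_fix H hd hl hz hza
  have h2 := nc_le hz.1 a b
  have h3 := nc_le hz.1 a p
  have h4 := h.even_fix hz
  have h5 := h.fix_mul_n1 hz hza hb
  rw [h.hc hb] at h2
  rw [h.hd hp hp'] at h3
  rw [hf] at h1 h4 h5
  have h6 := h.two_le_c
  obtain ⟨ρ, rfl⟩ : ∃ ρ, r = 2 * ρ + 2 := by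
    obtain ⟨j, hj⟩ := h4
    rcases r with _ | r
    · omega
    · exact ⟨j - 2, by omega⟩
  have hd2 : 2 ≤ d := by
    obtain ⟨j, rfl⟩ := hd
    have := h.d_pos
    omega
  obtain ⟨a', m, ha, hk1, hm, hm0⟩ := h.exists_am'
  have h7 : c * (a' + m) * (2 * ρ + 3) = (2 * ρ + 4) * (nc z a b + (2 * ρ + 2) * nc z a p) := by
    rw [hl, hk1] at h1
    nlinarith
  have h8 : a' + m ≤ 2 := by
    by_contra h9
    have h10 : (2 * ρ + 4) * (nc z a b + (2 * ρ + 2) * nc z a p) ≤ (2 * ρ + 4) * (2 * c) :=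
      Nat.mul_le_mul_left _ (by nlinarith [Nat.mul_le_mul_left (2 * ρ + 2) h3])
    nlinarith [Nat.mul_le_mul_right (2 * ρ + 3) (Nat.mul_le_mul_left c (not_le.1 h9))]
  rcases Nat.eq_zero_or_pos a' with rfl | ha'
  swap
  · exfalso
    obtain rfl : a' = 1 := by omega
    obtain rfl : m = 1 := by omega
    rw [mul_one] at ha hm hk1
    subst ha hm
    have h9 : (lam : ℤ) = (2 * ρ + 2) * mu := by exact_mod_cast hc
    have h10 : (k : ℤ) = 1 + lam + lam := by exact_mod_cast hk1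
    obtain ⟨s, hs, -⟩ := h.srg (by
      have : (0 : ℤ) ≤ (k + l) * (lam - mu) := mul_nonneg (by positivity) (by nlinarith)
      omega)
    exact num11 (s := s) (y := lam - mu) (d := mu) (by exact_mod_cast hd2) (by nlinarith)
      (by rw [hs, h10]; ring) (by exact_mod_cast hd)
  rw [mul_zero] at ha
  rw [h.alpha H hd ha hl hz hza hp hp'] at h5
  obtain ⟨σ, hσ⟩ := h.d_dvd_aa H hp hp'
  obtain ⟨n, hn1, hn2⟩ := h.aa_ineq H ha hp hp'
  rw [hσ] at h5 hn1 hn2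
  have h9 : d * m * (2 * ρ + 3) = d * σ + (2 * ρ + 4) * nc z a p :=
    Nat.eq_of_mul_eq_mul_left (show 0 < 2 * ρ + 2 by omega) (by
      rw [hc] at h7
      nlinarith)
  have h10 : d * σ + n = (2 * ρ + 2) * d * m := by
    rw [hc] at hk1
    omega
  have h11 : d * σ * σ + d * m * m ≤ σ + m + n * m :=
    Nat.le_of_mul_le_mul_left (by rw [hm] at hn2; nlinarith) h.d_pos
  rcases (show m = 1 ∨ m = 2 by omega) with rfl | rfl
  swap
  · exact (num02 hd2 h3 h9 h10 h11).elim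
  rw [mul_one] at hm
  obtain ⟨n', h12, h13⟩ := h.n2_eq H hd ha hm (by omega) hz hza hzp hp hp'
  rcases num01 hd2 h9 h10 h11 h12 h13 with ⟨rfl, rfl⟩ | ⟨rfl, h18⟩
  · omega
  · exfalso
    subst ha hm
    have h21 : (k : ℤ) = 4 * mu + 1 := by omega
    have h22 : (l : ℤ) = k * 4 := by exact_mod_cast hl
    have h23 : (6 : ℤ) ≤ mu := by exact_mod_cast h18
    obtain ⟨s, hs, -⟩ := h.srg (by
      rw [h22, show (2 * k + (k + k * 4) * ((0 : ℕ) - mu) : ℤ) = k * (2 - 5 * mu) by push_cast; ring]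
      exact mul_ne_zero (by omega) (by omega))
    exact num14 (s := s) (d := mu) (by exact_mod_cast h18) (by rw [hs, h21]; push_cast; ring)

theorem params : (k = 3 ∧ l = 6 ∧ c = 2) ∨ (k = 5 ∧ l = 10 ∧ c = 4) ∨ (k = 9 ∧ l = 6 ∧ c = 4) := by
  by_cases H : h.SR
  · rcases Nat.even_or_odd d with hd | hd
    · exact Or.inr (Or.inl (h.caseA2 H hd))
    · exact Or.inl (h.caseA1 H hd)
  · unfold SR at H
    push Not at H
    obtain ⟨x, y, g, h1, h2, h3, h4⟩ := H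
    exact Or.inr (Or.inr (h.caseA0 h3.symm ⟨h1, h2⟩ h4))

end PA

end Cfsg.Agent.R3
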