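import Cfsg.Agent.Lib.R3.Basic

/-!
# Rank three groups with a Frobenius constituent: complement of odd order
-/

set_option autoImplicit false

namespace Cfsg.Agent.R3

open Subgroup MulAction

universe u v

theorem exists_fix_pgroup {G : Type u} [Group G] {Y : Type v} [Fintype Y] [MulAction G Y] {q : ℕ}
    [Fact q.Prime] {S : Subgroup G} (hS : IsPGroup q S) (p : Y → Prop)
    (hinv : ∀ g ∈ S, ∀ y, p y → p (g • y)) (hT : ¬ q ∣ cnt p) : ∃ y, p y ∧ ∀ g ∈ S, g • y = y := by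
  let _ : MulAction S {y // p y} :=
    { smul := fun g y => ⟨(g : G) • y, hinv g g.2 y y.2⟩
      one_smul := fun y => Subtype.ext (one_smul G _)
      mul_smul := fun a b y => Subtype.ext (mul_smul (a : G) b _) }
  obtain ⟨y, hy⟩ := hS.nonempty_fixed_point_of_prime_not_dvd_card {y // p y}
    (by rwa [← cnt_eq_natCard])
  exact ⟨y, y.2, fun g hg => congrArg Subtype.val (hy ⟨g, hg⟩)⟩

theorem omZ_ne_bot_of_nilpotent {G : Type u} [Group G] [Finite G] {p : ℕ} [hp : Fact p.Prime]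
    {S : Subgroup G} (hS : Group.IsNilpotent S) (h : p ∣ Nat.card S) : omZ p S ≠ ⊥ := by
  obtain ⟨P⟩ : Nonempty (Sylow p S) := inferInstance
  obtain ⟨x, hx, hx1⟩ := (omZ p (P : Subgroup S)).bot_or_exists_ne_one.resolve_left
    (omZ_ne_bot P.isPGroup' (P.ne_bot_of_dvd_card h))
  obtain ⟨n, hn⟩ := isPGroup_quot_of_sylow_le (p := p) (centralizer {x}) fun s _ hs => by
    obtain ⟨Q⟩ : Nonempty (Sylow s S) := inferInstance
    exact ⟨Q, fun y hy => mem_centralizer_singleton_iff.2 (commute_of_normal_of_disjoint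
      (Q : Subgroup S) P inferInstance inferInstance
      (IsPGroup.disjoint_of_ne s p hs _ _ Q.isPGroup' P.isPGroup') y x hy hx.1)⟩
  have h2 : (centralizer {x}).index ∣ (P : Subgroup S).index :=
    index_dvd_of_le fun y hy => mem_centralizer_singleton_iff.2 (hx.2.2 y hy).symm
  have h3 : centralizer {x} = ⊤ := by
    rw [← index_eq_one]
    rcases n with _ | n
    · simpa using hn
    · exact absurd ((hn ▸ dvd_pow_self p (Nat.succ_ne_zero n)).trans h2) P.not_dvd_index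
  intro hb
  have h4 : (x : G) ∈ omZ p S := by
    refine ⟨x.2, congrArg (fun t : S => (t : G)) hx.2.1, fun y hy => ?_⟩
    have h5 : (⟨y, hy⟩ : S) ∈ centralizer {x} := by rw [h3]; exact mem_top _
    exact (congrArg (fun t : S => (t : G)) (mem_centralizer_singleton_iff.1 h5)).symm
  rw [hb, mem_bot] at h4
  exact hx1 (Subtype.ext h4)

theorem exists_central_invol {G : Type u} [Group G] [Finite G] {s t : G} (hs : s * s = 1)
    (ht : t * t = 1) (h : Even (orderOf (s * t))) :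
    ∃ w : G, w ≠ 1 ∧ s * w = w * s ∧ t * w = w * t ∧ (IsConj s (s * w) ∨ IsConj t (s * w)) := by
  obtain ⟨j, hj⟩ := h
  have hsi : s⁻¹ = s := inv_eq_of_mul_eq_one_right hs
  have hti : t⁻¹ = t := inv_eq_of_mul_eq_one_right ht
  have h0 := orderOf_pos (s * t)
  have hw : (s * t) ^ j * (s * t) ^ j = 1 := by rw [← pow_add, ← hj, pow_orderOf_eq_one]
  have hinv : ∀ (r : G), r * (s * t) * r⁻¹ = (s * t)⁻¹ → ∀ n : ℕ,
      r * (s * t) ^ n = ((s * t) ^ n)⁻¹ * r := fun r hr n => by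
    rw [← inv_pow, ← hr, conj_pow]
    simp
  have h1 := hinv s (by rw [← mul_assoc, hs, one_mul, mul_inv_rev, hti])
  have h2 := hinv t (by rw [mul_inv_rev, hti, hsi, mul_assoc, mul_assoc, ht, mul_one])
  have hwi : ((s * t) ^ j)⁻¹ = (s * t) ^ j := inv_eq_of_mul_eq_one_right hw
  refine ⟨(s * t) ^ j, pow_ne_one_of_lt_orderOf (by omega) (by omega), by rw [h1, hwi],
    by rw [h2, hwi], ?_⟩
  obtain ⟨i, rfl | rfl⟩ := Nat.even_or_odd' j
  · refine Or.inl (isConj_iff.2 ⟨((s * t) ^ i)⁻¹, ?_⟩)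
    rw [← h1, inv_inv, mul_assoc, ← pow_add, two_mul]
  · refine Or.inr (isConj_iff.2 ⟨((s * t) ^ i)⁻¹, ?_⟩)
    rw [← h2, inv_inv, pow_succ', ← mul_assoc s, ← mul_assoc s, hs, one_mul, mul_assoc, ← pow_add,
      two_mul]

theorem eq_inv_of_odd {G : Type u} [Group G] {g u : G} (h : g * u * g⁻¹ = u⁻¹) {n : ℕ}
    (hn : Odd n) (hg : g ^ n = 1) : u = u⁻¹ := by
  obtain ⟨i, rfl⟩ := hn
  have h2 : Commute (g ^ 2) u := by
    have h' : g * u⁻¹ * g⁻¹ = u := by rw [← conj_inv, h, inv_inv]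
    change g ^ 2 * u = u * g ^ 2
    calc g ^ 2 * u = g * (g * u * g⁻¹) * g⁻¹ * g ^ 2 := by simp [pow_two, mul_assoc]
      _ = _ := by rw [h, h']
  have h3 : g = ((g ^ 2) ^ i)⁻¹ := by
    rw [← pow_mul]
    exact eq_inv_of_mul_eq_one_right (by rw [← pow_succ, hg])
  have h4 : Commute g u := by
    rw [h3]
    exact (h2.pow_left i).inv_left
  rw [← h, h4.eq, mul_inv_cancel_right]

variable {G : Type u} [Group G] [Fintype G] {X : Type v} [MulAction G X] [Fintype X]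
  {adj : X → X → Prop} {k l c d lam mu : ℕ}

namespace Par

variable (h : Par G adj k l c d lam mu)
include h

theorem ker_of_far (hc : Odd c) {a p : X} (hp : a ≠ p) (hp' : ¬ adj a p) {g : G}
    (hg : g ∈ st2 G a p) : g ∈ h.ker a := by
  by_contra hcon
  obtain ⟨b0, hb0, e0⟩ := h.exists_fix hg.1 hcon
  obtain ⟨q, hq, hqg⟩ := Nat.exists_prime_and_dvd (n := orderOf g)
    (fun e => hcon (orderOf_eq_one_iff.1 e ▸ one_mem _))
  have := Fact.mk hq
  have hqk : ¬ q ∣ k := fun e => hq.one_lt.ne' (Nat.eq_one_of_dvd_coprimes h.coprime_kc e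
    (hqg.trans (orderOf_dvd_of_pow_eq_one (h.pow_c hb0 hg.1 e0))))
  obtain ⟨S⟩ : Nonempty (Sylow q (st2 G a p)) := inferInstance
  set Q := (S : Subgroup (st2 G a p)).map (st2 G a p).subtype with hQ
  have hQp : IsPGroup q Q := S.isPGroup'.map _
  have hQD : Q ≤ st2 G a p := map_subtype_le _
  obtain ⟨w, hw, hw1⟩ := Q.bot_or_exists_ne_one.resolve_left (by
    rw [hQ, map_eq_bot_iff_of_injective _ (st2 G a p).subtype_injective]
    exact S.ne_bot_of_dvd_card (hqg.trans ((st2 G a p).orderOf_dvd_natCard hg)))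
  have hex : ∀ y, (∀ w ∈ Q, w • y = y) → ∃ z, adj y z ∧ ∀ w ∈ Q, w • z = z := fun y hy =>
    exists_fix_pgroup hQp (adj y) (fun g hg z hz => by simpa [hy g hg] using h.smul g hz)
      (by rwa [show cnt (adj y) = k from h.hk y])
  have huniq : ∀ y z z', (∀ w ∈ Q, w • y = y) → adj y z → adj y z' → (∀ w ∈ Q, w • z = z) →
      (∀ w ∈ Q, w • z' = z') → z = z' := fun y z z' hy h1 h2 h3 h4 => by
    by_contra hne
    exact hw1 (h.semi h1 h2 hne (hy w hw) (h3 w hw) (h4 w hw))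
  have hQa : ∀ w ∈ Q, w • a = a := fun w hw => (hQD hw).1
  obtain ⟨b, hb, hQb⟩ := hex a hQa
  choose! m hm using hex
  have heven := even_cnt_of_invol (p := fun y => (∀ w ∈ Q, w • y = y) ∧ y ≠ a ∧ ¬ adj a y) m
    (fun y hy => ⟨(hm y hy.1).2, fun e => hy.2.2 (h.symm (e ▸ (hm y hy.1).1)), fun e =>
      hy.2.1 (huniq _ _ _ (hm y hy.1).2 (h.symm (hm y hy.1).1) (h.symm e) hy.1 hQa)⟩)
    (fun y hy => huniq _ _ _ (hm y hy.1).2 (hm _ (hm y hy.1).2).1 (h.symm (hm y hy.1).1)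
      (hm _ (hm y hy.1).2).2 hy.1)
    (fun y hy => (h.ne (hm y hy.1).1).symm)
  have horb := cnt_orbit_mul (fun (g : G) (y : X) => g • y) (one_smul G) mul_smul
    (st2 G a b ⊓ normalizer (Q : Set G)) p
  rw [← cnt_congr (p := fun y => (∀ w ∈ Q, w • y = y) ∧ y ≠ a ∧ ¬ adj a y) fun y => ⟨fun hy => ?_,
    ?_⟩] at horb
  · have h1 := (Dvd.intro _ horb).trans (card_dvd_of_le inf_le_left)
    rw [h.hc hb] at h1
    exact (Nat.not_even_iff_odd.2 hc) (heven.trans_dvd h1)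
  · obtain ⟨g, hg1, hg2⟩ := h.tr2 hy.2.1.symm hy.2.2 hp hp'
    obtain ⟨δ, hδ, hδ'⟩ := exists_conj_of_max (Y := Q.map (MulAut.conj g).toMonoidHom) hQD (by
      rintro _ ⟨x, hx, rfl⟩
      refine ⟨?_, ?_⟩
      · change (g * x * g⁻¹) • a = a
        conv_lhs => rw [← hg1, conj_smul_smul, hQa x hx, hg1]
      · change (g * x * g⁻¹) • p = p
        rw [← hg2, conj_smul_smul, hy.1 x hx]) hQp (hQp.map _) fun T hT hTp => by
      rw [hQ, card_map_of_injective (st2 G a p).subtype_injective,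
        ← Nat.card_congr (subgroupOfEquivOfLe hT).toEquiv]
      exact card_le_sylow S hTp.comap_subtype
    have hn : δ * g ∈ normalizer (Q : Set G) := mem_normalizer_fintype fun x hx => by
      have := hδ' _ ⟨x, hx, rfl⟩
      rwa [show δ * (MulAut.conj g).toMonoidHom x * δ⁻¹ = δ * g * x * (δ * g)⁻¹ by
        simp [mul_assoc]] at this
    have ha : (δ * g) • a = a := by rw [mul_smul, hg1, hδ.1]
    refine ⟨(δ * g)⁻¹, inv_mem ⟨⟨ha, huniq a _ _ hQa (by simpa [ha] using h.smul (δ * g) hb) hb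
      (fun x hx => ?_) hQb⟩, hn⟩, ?_⟩
    · rw [← mul_smul, show x * (δ * g) = (δ * g) * ((δ * g)⁻¹ * x * (δ * g)) by group, mul_smul,
        hQb _ ((mem_normalizer_iff''.1 hn x).1 hx)]
    · change (δ * g)⁻¹ • p = y
      rw [inv_smul_eq_iff, mul_smul, hg2, hδ.2]
  · rintro ⟨n, hn, rfl⟩
    refine ⟨fun x hx => ?_, fun e => hp (MulAction.injective n (hn.1.1.trans e.symm)),
      fun e => hp' ((h.smul_iff n).1 (by rwa [show n • a = a from hn.1.1]))⟩
    change x • n • p = n • p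
    rw [← mul_smul, show x * n = n * (n⁻¹ * x * n) by group, mul_smul,
      (hQD ((mem_normalizer_iff''.1 hn.2 x).1 hx)).2]

/-- central elements of order at most two in the kernel -/
def ee (x : X) : Subgroup G := omZ 2 (h.ker x)

theorem ee_ker {x : X} {e : G} (he : e ∈ h.ee x) : e ∈ h.ker x := he.1

theorem ee_sq {x : X} {e : G} (he : e ∈ h.ee x) : e * e = 1 := (pow_two e).symm.trans he.2.1

theorem ee_comm {x : X} {e g : G} (he : e ∈ h.ee x) (hg : g ∈ h.ker x) : e * g = g * e :=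
  he.2.2 g hg

theorem ee_conj {x : X} {e : G} (he : e ∈ h.ee x) (g : G) : g * e * g⁻¹ ∈ h.ee (g • x) := by
  refine ⟨h.conj_mem he.1 g, by rw [conj_pow, he.2.1]; simp, fun y hy => ?_⟩
  have h1 := he.2.2 _ (by simpa using h.conj_mem hy g⁻¹)
  calc g * e * g⁻¹ * y = g * (e * (g⁻¹ * y * g)) * g⁻¹ := by group
    _ = _ := by rw [h1]; group

theorem ee_semi {a b : X} (hb : adj a b) {g e : G} (hg : g ∈ st2 G a b) (he : e ∈ h.ker a)
    (he1 : e ≠ 1) (hc : g * e * g⁻¹ = e) : g = 1 :=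
  h.ker_eq_one (h.mem_ker_of_comm he he1 hg.1 (mul_inv_eq_iff_eq_mul.1 hc)) hb hg.2

theorem c_dvd_ee (a : X) : c ∣ cnt (fun e => e ∈ h.ee a ∧ e ≠ 1) := by
  obtain ⟨b, hb⟩ := h.exists_adj a
  refine (h.hc hb).symm.dvd.trans ?_
  exact dvd_cnt_of_semireg (fun g e : G => g * e * g⁻¹) (by simp) (fun a b y => by group) _ _
    (fun g hg e he => ⟨by simpa [show g • a = a from hg.1] using h.ee_conj he.1 g,
      by simpa using he.2⟩) fun g hg e he => h.ee_semi hb hg he.1.1 he.2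

theorem caseB1 (hc : Odd c) (hk : Even k)
    (H : ∀ x y e, e ∈ h.ee x → e ≠ 1 → e • y = y → y = x) : False := by
  obtain ⟨a, p, hp, hp'⟩ := h.exfar
  obtain ⟨b, hb⟩ := h.exists_adj a
  obtain ⟨e, he, he1⟩ := (h.ee a).bot_or_exists_ne_one.resolve_left
    (omZ_ne_bot_of_nilpotent (h.nilpotent a) (by rw [h.card_ker]; exact hk.two_dvd))
  have hcl : ∀ t, IsConj e t → ∃ x, t ∈ h.ee x := fun t ht => by
    obtain ⟨g, rfl⟩ := isConj_iff.1 ht
    exact ⟨_, h.ee_conj he g⟩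
  have hcl' : ∀ t x, IsConj e t → t • x = x → t ∈ h.ee x := fun t x ht hx => by
    obtain ⟨y, hy⟩ := hcl t ht
    rwa [H y x t hy (ne_one_of_isConj he1 ht) hx]
  have hodd : ∀ s t x y, IsConj e s → IsConj e t → s • x = x → t • y = y → x ≠ y →
      Odd (orderOf (s * t)) := fun s t x y hs ht hx hy hxy => by
    rw [← Nat.not_even_iff_odd]
    intro hev
    obtain ⟨w, hw1, hsw, htw, hcj⟩ := exists_central_invol (sq_of_isConj (h.ee_sq he) hs)
      (sq_of_isConj (h.ee_sq he) ht) hev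
    have hwx : w • x = x := H x _ s (hcl' s x hs hx) (ne_one_of_isConj he1 hs) (by
      rw [← mul_smul, hsw, mul_smul, hx])
    have hwy : w • y = y := H y _ t (hcl' t y ht hy) (ne_one_of_isConj he1 ht) (by
      rw [← mul_smul, htw, mul_smul, hy])
    have h1 := hcl' (s * w) x (hcj.elim hs.trans ht.trans) (by rw [mul_smul, hwx, hx])
    exact hxy (H x y w ((mul_mem_cancel_left (hcl' s x hs hx)).1 h1) hw1 hwy).symm
  have h1 := h.cls_fix e a
  rw [cnt_eq_one (p := fun x : X => e • x = x) a fun x => ⟨H a x e he he1, fun e1 => e1 ▸ he.1.1⟩,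
    mul_one, h.cls_eq e hb hp hp', h.card_X] at h1
  have h2 : c ≤ nc e a a := by
    rw [← h.hc hb, card_eq_cnt]
    refine cnt_le_of_inj (fun g => g * e * g⁻¹) (fun g hg => ⟨isConj_iff.2 ⟨g, rfl⟩, ?_⟩)
      fun x y hx hy e1 => ?_
    · simpa [show g • a = a from hg.1] using (h.ee_conj he g).1.1
    · refine (inv_mul_eq_one.1 (h.ee_semi hb (mul_mem (inv_mem hy) hx) he.1 he1 ?_)).symm
      calc y⁻¹ * x * e * (y⁻¹ * x)⁻¹ = y⁻¹ * (x * e * x⁻¹) * y := by group
        _ = e := by rw [show x * e * x⁻¹ = y * e * y⁻¹ from e1]; group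
  have h3 := nc_le (h.ee_sq he) a b
  rw [h.hc hb] at h3
  have h4 : 2 ≤ nc e a p := by
    have := h.two_le_c
    have := h.l_pos
    by_contra h5
    nlinarith
  obtain ⟨t1, t2, hne, ⟨ht1, e1⟩, ⟨ht2, e2⟩⟩ := exists_two_of_cnt h4
  have s1 := sq_of_isConj (h.ee_sq he) ht1
  have s2 := sq_of_isConj (h.ee_sq he) ht2
  have hu : t1 * t2 ∈ st2 G a p := ⟨by
    change (t1 * t2) • a = a
    rw [mul_smul, e2, ← e1, invol_smul s1], by
    change (t1 * t2) • p = p
    rw [mul_smul, ← e2, invol_smul s2, e1, e2]⟩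
  have hu1 : t1 * t2 ≠ 1 := fun e => hne ((eq_inv_of_mul_eq_one_left e).trans
    (inv_eq_of_mul_eq_one_right s2))
  obtain ⟨x1, hx1⟩ := hcl t1 ht1
  obtain ⟨x2, hx2⟩ := hcl t2 ht2
  have hx1a : a ≠ x1 := fun e => hp (by rw [← e1, e, hx1.1.1])
  have ho := hodd t1 t2 x1 x2 ht1 ht2 hx1.1.1 hx2.1.1 fun e =>
    hx1a (H x1 a _ (mul_mem hx1 (e ▸ hx2)) hu1 hu.1)
  have h5 := eq_inv_of_odd (g := e * t1) (u := t1 * t2) (by
    have e3 := h.ee_comm he (inv_mem (h.ker_of_far hc hp hp' hu))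
    calc e * t1 * (t1 * t2) * (e * t1)⁻¹ = e * ((t1 * t1) * t2 * t1⁻¹) * e⁻¹ := by group
      _ = e * (t1 * t2)⁻¹ * e⁻¹ := by
        rw [s1, one_mul, mul_inv_rev, inv_eq_of_mul_eq_one_right s2]
      _ = _ := by rw [e3, mul_inv_cancel_right])
    (hodd e t1 a x1 (IsConj.refl e) ht1 he.1.1 hx1.1.1 hx1a) (pow_orderOf_eq_one _)
  refine hu1 (eq_one_of_pow_of_pow ((Nat.coprime_two_left).2 ho) ?_ (pow_orderOf_eq_one _))
  rw [pow_two]
  nth_rewrite 2 [h5]
  exact mul_inv_cancel _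

end Par

end Cfsg.Agent.R3
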