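import Cfsg.Agent.Lib.R3.CaseB

/-!
# Rank three groups with a Frobenius constituent: complement of odd order, second half
-/

set_option autoImplicit false

namespace Cfsg.Agent.R3

open Subgroup MulAction

universe u v

variable {G : Type u} [Group G] [Fintype G] {X : Type v} [MulAction G X] [Fintype X]
  {adj : X → X → Prop} {k l c d lam mu : ℕ}

omit [Fintype X] in
theorem cnt_conj (g : G) {p q : G → Prop} (h : ∀ t, p t ↔ q (g * t * g⁻¹)) : cnt p = cnt q :=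
  cnt_bij (fun t => g * t * g⁻¹) (fun t => (h t).1) (fun _ _ _ _ e => by simpa using e)
    fun y hy => ⟨g⁻¹ * y * g, (h _).2 (by rwa [show g * (g⁻¹ * y * g) * g⁻¹ = y by group]),
      by group⟩

omit [Fintype G] [Fintype X] in
theorem conj_smul_iff (g a : G) (x y : X) : (g * a * g⁻¹) • g • x = g • y ↔ a • x = y := by
  rw [conj_smul_smul, smul_left_cancel_iff]

namespace Par

variable (h : Par G adj k l c d lam mu)
include h

theorem ee_conj_iff {x : X} (e g : G) : e ∈ h.ee x ↔ g * e * g⁻¹ ∈ h.ee (g • x) :=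
  ⟨fun he => h.ee_conj he g, fun he => by
    have := h.ee_conj he g⁻¹
    rwa [inv_smul_smul, show g⁻¹ * (g * e * g⁻¹) * g⁻¹⁻¹ = e by group] at this⟩

theorem st2_eq_of_fix {a p r r' : X} (hp : a ≠ p) (hp' : ¬ adj a p) (hr : r ≠ r')
    (hr' : ¬ adj r r') (h1 : ∀ g ∈ st2 G a p, g • r = r) (h2 : ∀ g ∈ st2 G a p, g • r' = r') :
    st2 G r r' = st2 G a p :=
  (eq_of_le_of_card_ge (fun g hg => mem_st2.2 ⟨h1 g hg, h2 g hg⟩) (by rw [h.hd hp hp', h.hd hr hr'])).symm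

theorem b2_eps {x y x' y' : X} (h1 : x ≠ y) (h1' : ¬ adj x y) (h2 : x' ≠ y') (h2' : ¬ adj x' y') :
    cnt (fun e => e ∈ h.ee x ∧ e • y = y) = cnt (fun e => e ∈ h.ee x' ∧ e • y' = y') := by
  obtain ⟨g, rfl, rfl⟩ := h.tr2 h1 h1' h2 h2'
  exact cnt_conj g fun t => by rw [← h.ee_conj_iff, conj_smul_iff]

theorem b2_eta (x y : X) : Nat.card (h.ee x) = Nat.card (h.ee y) := by
  obtain ⟨g, rfl⟩ := h.tr0 x y
  rw [card_eq_cnt, card_eq_cnt]
  exact cnt_conj g fun t => h.ee_conj_iff t g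

theorem b2_num (hc : Odd c) {x0 y0 : X} {e0 : G} (he0 : e0 ∈ h.ee x0) (he1 : e0 ≠ 1)
    (hy0 : e0 • y0 = y0) (hxy : y0 ≠ x0) :
    (∀ x y, x ≠ y → ¬ adj x y → cnt (fun e => e ∈ h.ee x ∧ e • y = y) = 2) ∧
      (∀ x, Nat.card (h.ee x) = 4) := by
  have hfar : ¬ adj x0 y0 := h.not_adj_of_ker he0.1 he1 he0.1.1 hy0
  set ε := cnt (fun e => e ∈ h.ee x0 ∧ e • y0 = y0) with hε
  have hε2 : 2 ≤ ε := two_le_cnt he1 ⟨he0, hy0⟩ ⟨one_mem _, one_smul _ _⟩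
  have hεc : ∀ x y, x ≠ y → ¬ adj x y → cnt (fun e => e ∈ h.ee x ∧ e • y = y) = ε :=
    fun x y h1 h2 => h.b2_eps h1 h2 hxy.symm hfar
  set η := Nat.card (h.ee x0)
  have h1 : ε * ε ≤ η := by
    obtain ⟨p, p', hp, hnp, hp', hnp', hpp⟩ := h.exists_adj_far x0
    have := card_mul_le (A := h.ee x0 ⊓ stabilizer G p) (B := h.ee x0 ⊓ stabilizer G p')
      (E := h.ee x0) inf_le_left inf_le_left
    rw [show (h.ee x0 ⊓ stabilizer G p) ⊓ (h.ee x0 ⊓ stabilizer G p') = ⊥ from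
      eq_bot_iff.2 fun g hg => by
        by_contra hne
        exact h.not_adj_of_ker hg.1.1.1 hne hg.1.2 hg.2.2 hpp, card_bot, one_mul, card_eq_cnt,
      card_eq_cnt] at this
    rwa [show cnt (· ∈ h.ee x0 ⊓ stabilizer G p) = ε from hεc _ _ hp hnp,
      show cnt (· ∈ h.ee x0 ⊓ stabilizer G p') = ε from hεc _ _ hp' hnp'] at this
  have hD : ∀ r, (∀ g ∈ st2 G x0 y0, g • r = r) → ∀ g ∈ st2 G x0 y0, g ∈ h.ker r :=
    fun r hr g hg => h.ker_of_fix (h.ker_of_far hc hxy.symm hfar hg) (hr g hg)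
  have hL : ∀ r r', (∀ g ∈ st2 G x0 y0, g • r = r) → (∀ g ∈ st2 G x0 y0, g • r' = r') →
      ¬ adj r r' := fun r r' h1 h2 =>
    h.not_adj_of_ker he0.1 he1 (h1 _ ⟨he0.1.1, hy0⟩) (h2 _ ⟨he0.1.1, hy0⟩)
  have hx0 : ∀ g ∈ st2 G x0 y0, g • x0 = x0 := fun g hg => hg.1
  have hE : ∀ r r', (∀ g ∈ st2 G x0 y0, g • r = r) → (∀ g ∈ st2 G x0 y0, g • r' = r') →
      r ≠ r' → st2 G r r' = st2 G x0 y0 := fun r r' h1 h2 h3 =>
    h.st2_eq_of_fix hxy.symm hfar h3 (hL r r' h1 h2) h1 h2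
  have h2 : η ≤ 2 * ε := by
    by_contra hlt
    have := cnt_mul_le (p := fun r => (∀ g ∈ st2 G x0 y0, g • r = r) ∧ r ≠ x0)
      (q := fun r => (∀ g ∈ st2 G x0 y0, g • r = r) ∧ r ≠ x0)
      (fun r y => ∃ s ∈ h.ee r, s • x0 = y) (m := 2) (n := 1) (fun r hr => ?_) fun y hy => ?_
    · have h3 := cnt_pos.2 (⟨y0, fun g hg => hg.2, hxy⟩ :
        ∃ r, (∀ g ∈ st2 G x0 y0, g • r = r) ∧ r ≠ x0)
      omega
    · have h3 := cnt_orbit_mul (fun (g : G) (y : X) => g • y) (one_smul G) mul_smul (h.ee r) x0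
      rw [hεc r x0 hr.2 (hL _ _ hr.1 hx0), h.b2_eta r x0,
        cnt_erase (a := x0) ⟨1, one_mem _, one_smul _ _⟩] at h3
      refine le_trans (by nlinarith) (cnt_mono (p := fun y => (∃ g ∈ h.ee r, g • x0 = y) ∧ y ≠ x0)
        fun y hy => ⟨⟨fun g hg => ?_, hy.2⟩, hy.1⟩)
      obtain ⟨s, hs, rfl⟩ := hy.1
      rw [← mul_smul, ← h.ee_comm hs (hD r hr.1 g hg), mul_smul, hg.1]
    · by_contra h3
      obtain ⟨r, r', hne, ⟨hr, s, hs, e1⟩, ⟨hr', s', hs', e2⟩⟩ := exists_two_of_cnt (not_le.1 h3)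
      have h4 : s * s' ∈ st2 G x0 y := ⟨by
        change (s * s') • x0 = x0
        rw [mul_smul, e2, ← e1, invol_smul (h.ee_sq hs)], by
        change (s * s') • y = y
        rw [mul_smul, ← e2, invol_smul (h.ee_sq hs'), e1, e2]⟩
      rw [hE x0 y hx0 hy.1 hy.2.symm] at h4
      have h5 : s' • r = r := by
        have := hr.1 _ h4
        rwa [mul_smul, smul_eq_iff_eq_inv_smul, (inv_mem hs).1.1] at this
      have h6 : s' ∈ st2 G r r' := ⟨h5, hs'.1.1⟩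
      rw [hE r r' hr.1 hr'.1 hne] at h6
      exact hy.2 (e2.symm.trans h6.1)
  have h3 : ε = 2 := by nlinarith
  exact ⟨fun x y h1 h2 => (hεc x y h1 h2).trans h3, fun x => (h.b2_eta x x0).trans (by nlinarith)⟩

theorem caseB2 (hc : Odd c) {x0 y0 : X} {e0 : G} (he0 : e0 ∈ h.ee x0) (he1 : e0 ≠ 1)
    (hy0 : e0 • y0 = y0) (hxy : y0 ≠ x0) : False := by
  obtain ⟨hε, hη⟩ := h.b2_num hc he0 he1 hy0 hxy
  have hη' : ∀ x, cnt (fun e => e ∈ h.ee x ∧ e ≠ 1) = 3 := fun x => by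
    have := hη x
    rw [card_eq_cnt, cnt_erase (one_mem _)] at this
    omega
  have hε' : ∀ x y, x ≠ y → ¬ adj x y → ∃ e, ∀ t, (t ∈ h.ee x ∧ t ≠ 1) ∧ t • y = y ↔ t = e := by
    intro x y h1 h2
    have h3 := hε x y h1 h2
    rw [cnt_erase (a := (1 : G)) ⟨one_mem _, one_smul _ _⟩] at h3
    obtain ⟨e, he⟩ := cnt_pos.1 (show 0 < cnt (fun t => (t ∈ h.ee x ∧ t • y = y) ∧ t ≠ 1) by omega)
    refine ⟨e, fun t => ⟨fun ht => ?_, fun e1 => e1 ▸ ⟨⟨he.1.1, he.2⟩, he.1.2⟩⟩⟩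
    by_contra hne
    have := two_le_cnt (p := fun t => (t ∈ h.ee x ∧ t • y = y) ∧ t ≠ 1) hne
      ⟨⟨ht.1.1, ht.2⟩, ht.1.2⟩ he
    omega
  have hc3 : c = 3 := by
    have h1 := h.c_dvd_ee x0
    rw [hη'] at h1
    have := h.two_le_c
    have := (Nat.dvd_prime Nat.prime_three).1 h1
    omega
  have hcj : ∀ x t, t ∈ h.ee x → t ≠ 1 → IsConj e0 t := by
    intro x t ht ht1
    obtain ⟨g, rfl⟩ := h.tr0 x x0
    obtain ⟨b, hb⟩ := h.exists_adj (g • x)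
    obtain ⟨a, -, ha⟩ := surj_of_cnt_le (p := (· ∈ st2 G (g • x) b))
      (q := fun e => e ∈ h.ee (g • x) ∧ e ≠ 1) (fun a => a * e0 * a⁻¹)
      (fun a ha => ⟨by simpa [show a • g • x = g • x from ha.1] using h.ee_conj he0 a,
        by simpa using he1⟩)
      (fun x y hx hy e1 => by
        refine (inv_mul_eq_one.1 (h.ee_semi hb (mul_mem (inv_mem hy) hx) he0.1 he1 ?_)).symm
        calc y⁻¹ * x * e0 * (y⁻¹ * x)⁻¹ = y⁻¹ * (x * e0 * x⁻¹) * y := by group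
          _ = e0 := by rw [show x * e0 * x⁻¹ = y * e0 * y⁻¹ from e1]; group)
      (by rw [hη', ← card_eq_cnt, h.hc hb, hc3]) (g * t * g⁻¹)
      ⟨h.ee_conj ht g, by simpa using ht1⟩
    exact (isConj_iff.2 ⟨a, ha⟩).trans (isConj_iff.2 ⟨g, rfl⟩).symm
  have hcl : ∀ t, IsConj e0 t → ∃ x, t ∈ h.ee x := fun t ht => by
    obtain ⟨g, rfl⟩ := isConj_iff.1 ht
    exact ⟨_, h.ee_conj he0 g⟩
  obtain ⟨k', hk'⟩ : ∃ k', ∀ x t, t ∈ h.ee x → t ≠ 1 →
      cnt (fun y => (y ≠ x ∧ ¬ adj x y) ∧ t • y = y) = k' := by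
    refine ⟨cnt (fun y : X => e0 • y = y) - 1, fun x t ht ht1 => ?_⟩
    obtain ⟨g, rfl⟩ := isConj_iff.1 (hcj x t ht ht1)
    rw [cnt_smul (q := fun y : X => (g * e0 * g⁻¹) • y = y) g fun y => (conj_smul_iff _ _ _ _).symm,
      cnt_erase (p := fun y : X => (g * e0 * g⁻¹) • y = y) (a := x) ht.1.1, Nat.add_sub_cancel]
    exact cnt_congr fun y => ⟨fun e => ⟨e.2, e.1.1⟩, fun e =>
      ⟨⟨e.2, h.not_adj_of_ker ht.1 ht1 ht.1.1 e.1⟩, e.1⟩⟩
  have hf : cnt (fun y : X => e0 • y = y) = k' + 1 := by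
    rw [cnt_erase (p := fun y : X => e0 • y = y) (a := x0) he0.1.1, ← hk' x0 e0 he0 he1]
    congr 1
    exact cnt_congr fun y => ⟨fun e =>
      ⟨⟨e.2, h.not_adj_of_ker he0.1 he1 he0.1.1 e.1⟩, e.1⟩, fun e => ⟨e.2, e.1.1⟩⟩
  have hl : l = 3 * k' := by
    have := cnt_mul_eq (p := fun e => e ∈ h.ee x0 ∧ e ≠ 1) (q := fun y => y ≠ x0 ∧ ¬ adj x0 y)
      (fun e y => e • y = y) (m := k') (n := 1) (fun t ht => hk' x0 t ht.1 ht.2) fun y hy => by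
        obtain ⟨e, he⟩ := hε' x0 y hy.1.symm hy.2
        exact cnt_eq_one e he
    rw [hη', h.hl] at this
    omega
  have hk : k = d * k' := by
    have := h.hld
    rw [hl, hc3] at this
    nlinarith
  have hdk : d ≤ k' := by
    obtain ⟨p, p', hp, hnp, hp', hnp', hpp⟩ := h.exists_adj_far x0
    obtain ⟨e, he⟩ := hε' x0 p' hp' hnp'
    have he' := (he e).2 rfl
    rw [← hk' x0 e he'.1.1 he'.1.2, ← h.hd hp hnp, card_eq_cnt]
    refine cnt_le_of_inj (fun g => g • p') (fun g hg => ⟨⟨fun e1 => hp' (MulAction.injective g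
      (hg.1.trans e1.symm)), fun e1 => hnp' ((h.smul_iff g).1 (by
        rwa [show g • x0 = x0 from hg.1]))⟩, ?_⟩) fun a b ha hb e1 => ?_
    · rw [← mul_smul, h.ee_comm he'.1.1 (h.ker_of_far hc hp hnp hg), mul_smul, he'.2]
    · have h1 := mul_mem (inv_mem ha) hb
      refine inv_mul_eq_one.1 (h.ker_eq_one (h.ker_of_fix (h.ker_of_far hc hp hnp h1) h1.2) hpp ?_)
      rw [mul_smul, ← show a • p' = b • p' from e1, inv_smul_smul]
  have hfar : ¬ adj x0 y0 := h.not_adj_of_ker he0.1 he1 he0.1.1 hy0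
  obtain ⟨e2, he2, he2'⟩ : ∃ e2, e2 ∈ h.ee x0 ∧ e2 • y0 ≠ y0 := by
    have h1 := cnt_split (· ∈ h.ee x0) (fun e => e • y0 = y0)
    rw [hε x0 y0 hxy.symm hfar, ← card_eq_cnt, hη] at h1
    exact cnt_pos.1 (show 0 < cnt (fun e => e ∈ h.ee x0 ∧ ¬ e • y0 = y0) by omega)
  have he21 : e2 ≠ 1 := fun e => he2' (by rw [e, one_smul])
  have hy1 : e0 • e2 • y0 = e2 • y0 := by rw [← mul_smul, h.ee_comm he0 he2.1, mul_smul, hy0]
  have hfar' : ¬ adj y0 (e2 • y0) := h.not_adj_of_ker he0.1 he1 hy0 hy1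
  have hne : e2 ≠ e2 * e0 := fun e => he1 (left_eq_mul.1 e)
  have hm1 : IsConj e0 e2 ∧ e2 • y0 = e2 • y0 := ⟨hcj _ _ he2 he21, rfl⟩
  have hm2 : IsConj e0 (e2 * e0) ∧ (e2 * e0) • y0 = e2 • y0 :=
    ⟨hcj _ _ (mul_mem he2 he0) fun e => he2' (by rw [← hy0, ← mul_smul, e, one_smul, hy0]),
      by rw [mul_smul, hy0]⟩
  have hn2 : 2 ≤ nc e0 y0 (e2 • y0) := two_le_cnt hne hm1 hm2
  obtain ⟨b, hb⟩ := h.exists_adj y0
  have hN := h.cls_eq e0 hb he2'.symm hfar'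
  have hN2 := h.cls_fix e0 y0
  have hd := h.d_pos
  rw [hf, h.card_X] at hN2
  by_cases hcase : e0 ∈ h.ee y0
  · have h0 : nc e0 y0 y0 = 3 := by
      rw [← hη' y0]
      refine cnt_congr fun t => ⟨fun ht => ⟨?_, ne_one_of_isConj he1 ht.1⟩,
        fun ht => ⟨hcj _ _ ht.1 ht.2, ht.1.1.1⟩⟩
      obtain ⟨x, hx⟩ := hcl t ht.1
      by_cases e : x = y0
      · exact e ▸ hx
      have ht1 := ne_one_of_isConj he1 ht.1
      have hf2 := h.not_adj_of_ker hx.1 ht1 hx.1.1 ht.2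
      obtain ⟨g, rfl, hg⟩ := h.tr2 hxy.symm hfar e hf2
      obtain ⟨e', he'⟩ := hε' _ _ e hf2
      rw [(he' t).1 ⟨⟨hx, ht1⟩, ht.2⟩, ← (he' (g * e0 * g⁻¹)).1 ⟨⟨h.ee_conj he0 g, by simpa using he1⟩,
        by rw [← hg, conj_smul_iff, hy0]⟩, ← hg]
      exact h.ee_conj hcase g
    rw [hN, h0, hl, hk] at hN2
    nlinarith [Nat.zero_le (d * k' * nc e0 y0 b * (k' + 1)), Nat.mul_le_mul hn2 hdk,
      Nat.mul_le_mul (Nat.mul_le_mul hn2 hdk) (le_refl k'), Nat.mul_le_mul hn2 (le_refl k'),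
      Nat.mul_le_mul hd hdk]
  · have hu : ∀ t x y, t ≠ 1 → t ∈ h.ee x → t ∈ h.ee y → x = y := fun t x y ht1 hx hy => by
      by_contra e
      have hf2 := h.not_adj_of_ker hx.1 ht1 hx.1.1 hy.1.1
      obtain ⟨g, rfl, rfl⟩ := h.tr2 hxy.symm hfar e hf2
      obtain ⟨e', he'⟩ := hε' _ _ e hf2
      rw [(he' t).1 ⟨⟨hx, ht1⟩, hy.1.1⟩, ← (he' (g * e0 * g⁻¹)).1 ⟨⟨h.ee_conj he0 g,
        by simpa using he1⟩, by rw [conj_smul_iff, hy0]⟩, ← h.ee_conj_iff] at hy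
      exact hcase hy
    have hN3 := cnt_mul_eq (p := IsConj e0) (q := fun _ : X => True) (fun t x => t ∈ h.ee x)
      (m := 1) (n := 3) (fun t ht => by
        obtain ⟨x, hx⟩ := hcl t ht
        exact cnt_eq_one x fun y => ⟨fun hy => hu t _ _ (ne_one_of_isConj he1 ht) hy.2 hx,
          fun e => ⟨trivial, e ▸ hx⟩⟩) fun x _ => by
        rw [← hη' x]
        exact cnt_congr fun t => ⟨fun ht => ⟨ht.2, ne_one_of_isConj he1 ht.1⟩,
          fun ht => ⟨hcj _ _ ht.1 ht.2, ht.1⟩⟩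
    rw [mul_one, cnt_true, h.card_X] at hN3
    rw [hN3, mul_assoc] at hN2
    have h0 := Nat.eq_of_mul_eq_mul_left (by omega) hN2
    rw [hN3, ← h0, hl, hk] at hN
    have h1 : d * nc e0 y0 b + 3 * nc e0 y0 (e2 • y0) = 3 * d + 6 :=
      Nat.eq_of_mul_eq_mul_left (show 0 < k' by omega) (by nlinarith)
    have h2 := nc_le (h.ee_sq he0) y0 b
    have h3 := nc_le (h.ee_sq he0) y0 (e2 • y0)
    rw [h.hc hb, hc3] at h2
    rw [h.hd he2'.symm hfar'] at h3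
    have h4 : ¬ 3 ∣ d := fun e => by
      have := h.coprime_kc
      rw [hc3, hk] at this
      exact absurd (Nat.eq_one_of_dvd_coprimes this (e.mul_right _) dvd_rfl) (by norm_num)
    have h5 : nc e0 y0 (e2 • y0) = 2 := by
      generalize nc e0 y0 b = n1 at h1 h2
      interval_cases n1 <;> omega
    obtain ⟨δ, hδ⟩ := hε' _ _ he2'.symm hfar'
    obtain ⟨⟨hδ1, hδ2⟩, hδ3⟩ := (hδ δ).2 rfl
    have h6 := eq_of_cnt_le (p := fun t => t = e2 ∨ t = e2 * e0)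
      (q := fun t => IsConj e0 t ∧ t • y0 = e2 • y0)
      (fun t ht => by rcases ht with rfl | rfl <;> assumption)
      (by rw [cnt_eq_two hne fun _ => Iff.rfl]; exact h5.le) (δ * e2 * δ⁻¹)
      ⟨hm1.1.trans (isConj_iff.2 ⟨δ, rfl⟩), by
        rw [mul_smul, mul_smul, (inv_mem hδ1).1.1, hδ3]⟩
    have h7 : x0 = δ • x0 := hu (δ * e2 * δ⁻¹) _ _ (by simpa using he21)
      (by rcases h6 with e | e <;> rw [e]; exacts [he2, mul_mem he2 he0]) (h.ee_conj he2 δ)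
    have h8 := h.ee_conj hδ1 e2
    rw [h.ee_comm he2 (h.ker_of_fix hδ1.1 h7.symm), mul_inv_cancel_right] at h8
    exact he2' (hu δ _ _ hδ2 h8 hδ1)

theorem even_c (hG : Even (Nat.card G)) : Even c := by
  by_contra hc
  rw [Nat.not_even_iff_odd] at hc
  have hk : Even k := by
    by_contra hk
    rw [Nat.not_even_iff_odd] at hk
    have h1 := hk.mul hc
    have hl : Odd l := Nat.Odd.of_mul_left (h.hld ▸ h1)
    rw [h.card_G, h.card_X, add_assoc] at hG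
    exact Nat.not_even_iff_odd.2 ((odd_one.add_even (hk.add_odd hl)).mul h1) hG
  refine h.caseB1 hc hk fun x y e he he1 hy => ?_
  by_contra hne
  exact h.caseB2 hc he he1 hy hne

end Par

end Cfsg.Agent.R3
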