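import Cfsg.Agent.Lib.R3.PT

/-!
# Counting helpers
-/

set_option autoImplicit false

namespace Cfsg.Agent.R3

open Subgroup MulAction Finset

universe u v w

/-- number of elements with a property -/
noncomputable def cnt {α : Type u} [Fintype α] (p : α → Prop) : ℕ :=
  (@Finset.filter α p (Classical.decPred p) univ).card

section
variable {α : Type u} {β : Type v} [Fintype α] [Fintype β]

theorem cnt_eq (p : α → Prop) [DecidablePred p] : cnt p = (univ.filter p).card := by
  unfold cnt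
  congr

theorem cnt_eq_sum (p : α → Prop) [DecidablePred p] : cnt p = ∑ x, if p x then 1 else 0 := by
  rw [cnt_eq, card_filter]

theorem cnt_eq_natCard (p : α → Prop) : cnt p = Nat.card {x // p x} := by
  classical
  rw [cnt_eq, Nat.card_eq_fintype_card, Fintype.card_subtype]

theorem cnt_congr {p q : α → Prop} (h : ∀ x, p x ↔ q x) : cnt p = cnt q := by
  rw [show p = q from funext fun x => propext (h x)]

theorem cnt_le_of_inj {p : α → Prop} {q : β → Prop} (f : α → β) (h1 : ∀ x, p x → q (f x))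
    (h2 : ∀ x y, p x → p y → f x = f y → x = y) : cnt p ≤ cnt q := by
  classical
  rw [cnt_eq, cnt_eq]
  exact card_le_card_of_injOn f (fun x hx => by simpa using h1 x (by simpa using hx))
    fun x hx y hy => h2 x y (by simpa using hx) (by simpa using hy)

theorem cnt_mono {p q : α → Prop} (h : ∀ x, p x → q x) : cnt p ≤ cnt q :=
  cnt_le_of_inj id h fun _ _ _ _ e => e

theorem cnt_bij {p : α → Prop} {q : β → Prop} (f : α → β) (h1 : ∀ x, p x → q (f x))
    (h2 : ∀ x y, p x → p y → f x = f y → x = y) (h3 : ∀ y, q y → ∃ x, p x ∧ f x = y) :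
    cnt p = cnt q := by
  classical
  rw [cnt_eq, cnt_eq]
  exact card_bij (fun x _ => f x) (fun x hx => by simpa using h1 x (by simpa using hx))
    (fun x hx y hy => h2 x y (by simpa using hx) (by simpa using hy))
    fun y hy => by simpa using h3 y (by simpa using hy)

theorem cnt_split (p q : α → Prop) :
    cnt p = cnt (fun x => p x ∧ q x) + cnt (fun x => p x ∧ ¬ q x) := by
  classical
  rw [cnt_eq_sum, cnt_eq_sum, cnt_eq_sum, ← sum_add_distrib]
  exact sum_congr rfl fun x _ => by by_cases h1 : p x <;> by_cases h2 : q x <;> simp [h1, h2]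

theorem cnt_eq_one {p : α → Prop} (a : α) (h : ∀ x, p x ↔ x = a) : cnt p = 1 := by
  classical
  rw [cnt_congr h, cnt_eq_sum]
  simp

theorem cnt_eq_zero {p : α → Prop} (h : ∀ x, ¬ p x) : cnt p = 0 := by
  classical
  rw [cnt_eq, card_eq_zero, filter_eq_empty_iff]
  exact fun x _ => h x

theorem cnt_pos {p : α → Prop} : 0 < cnt p ↔ ∃ x, p x := by
  classical
  rw [cnt_eq, card_pos, filter_nonempty_iff]
  simp

theorem cnt_true : cnt (fun _ : α => True) = Fintype.card α := by
  rw [cnt_eq]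
  simp

theorem cnt_erase {p : α → Prop} {a : α} (h : p a) : cnt p = cnt (fun x => p x ∧ x ≠ a) + 1 := by
  rw [cnt_split p (· = a), add_comm, cnt_eq_one (p := fun x => p x ∧ x = a) a
    fun x => ⟨fun h => h.2, fun e => ⟨e ▸ h, e⟩⟩]

theorem cnt_eq_two {p : α → Prop} {a b : α} (hab : a ≠ b) (h : ∀ x, p x ↔ x = a ∨ x = b) :
    cnt p = 2 := by
  rw [cnt_erase ((h a).2 (Or.inl rfl)), cnt_eq_one b fun x => ⟨fun h1 =>
    ((h x).1 h1.1).resolve_left h1.2, fun e => ⟨(h x).2 (Or.inr e), e ▸ hab.symm⟩⟩]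

theorem two_le_cnt {p : α → Prop} {a b : α} (hab : a ≠ b) (ha : p a) (hb : p b) : 2 ≤ cnt p := by
  rw [← cnt_eq_two hab (p := fun x => x = a ∨ x = b) fun _ => Iff.rfl]
  exact cnt_mono fun x hx => by rcases hx with rfl | rfl <;> assumption

theorem exists_two_of_cnt {p : α → Prop} (h : 2 ≤ cnt p) : ∃ a b, a ≠ b ∧ p a ∧ p b := by
  obtain ⟨a, ha⟩ := cnt_pos.1 (show 0 < cnt p by omega)
  rw [cnt_erase ha] at h
  obtain ⟨b, hb⟩ := cnt_pos.1 (show 0 < cnt (fun x => p x ∧ x ≠ a) by omega)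
  exact ⟨a, b, hb.2.symm, ha, hb.1⟩

theorem eq_of_cnt_le {p q : α → Prop} (h : ∀ x, p x → q x) (hc : cnt q ≤ cnt p) (x : α)
    (hx : q x) : p x := by
  by_contra hn
  have h1 := cnt_split q p
  have h2 : cnt (fun x => q x ∧ p x) = cnt p := cnt_congr fun x => ⟨fun h => h.2, fun h1 => ⟨h x h1, h1⟩⟩
  have h3 := cnt_pos.2 (⟨x, hx, hn⟩ : ∃ x, q x ∧ ¬ p x)
  omega

theorem surj_of_cnt_le {p : α → Prop} {q : β → Prop} (f : α → β) (h1 : ∀ x, p x → q (f x))
    (h2 : ∀ x y, p x → p y → f x = f y → x = y) (hc : cnt q ≤ cnt p) (y : β) (hy : q y) :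
    ∃ x, p x ∧ f x = y := by
  refine eq_of_cnt_le (p := fun y => ∃ x, p x ∧ f x = y) (q := q) ?_ ?_ y hy
  · rintro _ ⟨x, hx, rfl⟩
    exact h1 x hx
  · exact hc.trans (cnt_le_of_inj f (fun x hx => ⟨x, hx, rfl⟩) h2)

/-- sum of `f` over the elements with property `p` -/
noncomputable def sumIf (p : α → Prop) (f : α → ℕ) : ℕ :=
  ∑ x, @ite _ (p x) (Classical.propDecidable _) (f x) 0

theorem sumIf_eq (p : α → Prop) [DecidablePred p] (f : α → ℕ) :
    sumIf p f = ∑ x, if p x then f x else 0 := by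
  unfold sumIf
  congr
  funext x
  congr

theorem sum_cnt_comm (p : α → Prop) (q : β → Prop) (r : α → β → Prop) :
    sumIf p (fun x => cnt (fun y => q y ∧ r x y)) =
      sumIf q (fun y => cnt (fun x => p x ∧ r x y)) := by
  classical
  have e1 : ∀ x, (if p x then cnt (fun y => q y ∧ r x y) else 0) =
      ∑ y, if p x ∧ q y ∧ r x y then 1 else 0 := fun x => by
    by_cases h : p x <;> simp [h, cnt_eq_sum]
  have e2 : ∀ y, (if q y then cnt (fun x => p x ∧ r x y) else 0) =
      ∑ x, if p x ∧ q y ∧ r x y then 1 else 0 := fun y => by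
    by_cases h : q y <;> simp [h, cnt_eq_sum]
  simp only [sumIf_eq, e1, e2]
  exact sum_comm

theorem sum_ite_const {p : α → Prop} {f : α → ℕ} {m : ℕ} (h : ∀ x, p x → f x = m) :
    sumIf p f = cnt p * m := by
  classical
  rw [sumIf_eq, cnt_eq_sum, sum_mul]
  exact sum_congr rfl fun x _ => by by_cases h1 : p x <;> simp [h1, h x]

theorem sum_ite_le {p : α → Prop} {f : α → ℕ} {m : ℕ} (h : ∀ x, p x → f x ≤ m) :
    sumIf p f ≤ cnt p * m := by
  classical
  rw [sumIf_eq, cnt_eq_sum, sum_mul]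
  exact sum_le_sum fun x _ => by by_cases h1 : p x <;> simp [h1, h x]

theorem le_sum_ite {p : α → Prop} {f : α → ℕ} {m : ℕ} (h : ∀ x, p x → m ≤ f x) :
    cnt p * m ≤ sumIf p f := by
  classical
  rw [sumIf_eq, cnt_eq_sum, sum_mul]
  exact sum_le_sum fun x _ => by by_cases h1 : p x <;> simp [h1, h x]

theorem sum_ite_split (p q : α → Prop) (f : α → ℕ) :
    sumIf p f = sumIf (fun x => p x ∧ q x) f + sumIf (fun x => p x ∧ ¬ q x) f := by
  classical
  rw [sumIf_eq, sumIf_eq, sumIf_eq, ← sum_add_distrib]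
  exact sum_congr rfl fun x _ => by by_cases h1 : p x <;> by_cases h2 : q x <;> simp [h1, h2]

theorem sumIf_erase {p : α → Prop} {a : α} (h : p a) (f : α → ℕ) :
    sumIf p f = f a + sumIf (fun x => p x ∧ x ≠ a) f := by
  rw [sum_ite_split p (· = a), sum_ite_const (m := f a) fun x hx => by rw [hx.2],
    cnt_eq_one (p := fun x => p x ∧ x = a) a fun x => ⟨fun h => h.2, fun e => ⟨e ▸ h, e⟩⟩, one_mul]

theorem cnt_mul_eq {p : α → Prop} {q : β → Prop} (r : α → β → Prop) {m n : ℕ}
    (h1 : ∀ x, p x → cnt (fun y => q y ∧ r x y) = m)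
    (h2 : ∀ y, q y → cnt (fun x => p x ∧ r x y) = n) : cnt p * m = cnt q * n := by
  rw [← sum_ite_const h1, ← sum_ite_const h2, sum_cnt_comm]

theorem cnt_mul_le {p : α → Prop} {q : β → Prop} (r : α → β → Prop) {m n : ℕ}
    (h1 : ∀ x, p x → m ≤ cnt (fun y => q y ∧ r x y))
    (h2 : ∀ y, q y → cnt (fun x => p x ∧ r x y) ≤ n) : cnt p * m ≤ cnt q * n :=
  (le_sum_ite h1).trans ((sum_cnt_comm p q r).trans_le (sum_ite_le h2))

theorem even_cnt_of_invol {p : α → Prop} (f : α → α) (h1 : ∀ x, p x → p (f x))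
    (h2 : ∀ x, p x → f (f x) = x) (h3 : ∀ x, p x → f x ≠ x) : Even (cnt p) := by
  classical
  rw [cnt_eq, ← ZMod.natCast_eq_zero_iff_even, card_eq_sum_ones]
  push_cast
  exact sum_involution (fun x _ => f x) (fun _ _ => rfl)
    (fun x hx _ => h3 x (by simpa using hx)) (fun x hx => by simpa using h1 x (by simpa using hx))
    (fun x hx => h2 x (by simpa using hx))

end

theorem card_eq_cnt {G : Type u} [Group G] [Fintype G] (S : Subgroup G) :
    Nat.card S = cnt (· ∈ S) := (cnt_eq_natCard _).symm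

theorem cnt_smul {G : Type u} [Group G] {X : Type v} [Fintype X] [MulAction G X] (g : G)
    {p q : X → Prop} (h : ∀ x, p x ↔ q (g • x)) : cnt p = cnt q :=
  cnt_bij (g • ·) (fun x => (h x).1) (fun _ _ _ _ e => MulAction.injective g e)
    fun y hy => ⟨g⁻¹ • y, (h _).2 (by simpa using hy), smul_inv_smul g y⟩

theorem dvd_cnt_of_semireg {G : Type u} [Group G] {Y : Type v} [Fintype Y] (f : G → Y → Y)
    (h1 : ∀ y, f 1 y = y) (hm : ∀ a b y, f (a * b) y = f a (f b y)) (S : Subgroup G)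
    (p : Y → Prop) (hinv : ∀ g ∈ S, ∀ y, p y → p (f g y))
    (hsr : ∀ g ∈ S, ∀ y, p y → f g y = y → g = 1) : Nat.card S ∣ cnt p := by
  let _ : MulAction S {y // p y} :=
    { smul := fun g y => ⟨f g y, hinv g g.2 y y.2⟩
      one_smul := fun y => Subtype.ext (h1 y)
      mul_smul := fun a b y => Subtype.ext (hm a b y) }
  have e := MulAction.selfEquivOrbitsQuotientProd (G := S) (X := {y // p y}) fun y => by
    rw [eq_bot_iff]
    intro g hg
    exact Subtype.ext (hsr g g.2 y y.2 (congrArg Subtype.val hg))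
  have := Nat.card_congr e
  rw [Nat.card_prod, ← cnt_eq_natCard] at this
  exact this ▸ dvd_mul_left _ _

theorem exists_fix_of_not_dvd {G : Type u} [Group G] [Finite G] {Y : Type v} [Fintype Y]
    (f : G → Y → Y) (h1 : ∀ y, f 1 y = y) (hm : ∀ a b y, f (a * b) y = f a (f b y)) {q : ℕ}
    (hq : q.Prime) {u : G} (hu : u ^ q = 1) (p : Y → Prop) (hinv : ∀ y, p y → p (f u y))
    (hT : ¬ q ∣ cnt p) : ∃ y, p y ∧ f u y = y := by
  by_contra hcon
  push Not at hcon
  have hpow : ∀ n : ℕ, ∀ y, p y → p (f (u ^ n) y) := by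
    intro n
    induction n with
    | zero => simp [h1]
    | succ n ih => exact fun y hy => by rw [pow_succ', hm]; exact hinv _ (ih y hy)
  obtain ⟨y0, hy0⟩ := cnt_pos.1 (Nat.pos_of_ne_zero fun h => hT (h ▸ dvd_zero q))
  have hu1 : u ≠ 1 := fun h => hcon y0 hy0 (h ▸ h1 y0)
  have hord : orderOf u = q := by
    have := Fact.mk hq
    exact orderOf_eq_prime hu hu1
  apply hT
  have := dvd_cnt_of_semireg f h1 hm (zpowers u) p
    (fun g hg y hy => by
      obtain ⟨n, hn⟩ := mem_powers_iff_mem_zpowers.2 hg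
      exact hn ▸ hpow n y hy)
    (fun g hg y hy h => by
      classical
      obtain ⟨n, hn, hn'⟩ := Finset.mem_image.1 (mem_zpowers_iff_mem_range_orderOf.1 hg)
      rw [hord, Finset.mem_range] at hn
      rcases Nat.eq_zero_or_pos n with rfl | h0
      · simpa using hn'.symm
      exfalso
      let B : Subgroup G :=
        { carrier := {a | f a y = y}
          one_mem' := h1 y
          mul_mem' := fun {a b} ha hb => (hm a b y).trans (by rw [show f b y = y from hb]; exact ha)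
          inv_mem' := fun {a} ha => by
            change f a⁻¹ y = y
            conv_lhs => rw [← show f a y = y from ha, ← hm, inv_mul_cancel, h1] }
      exact hcon y hy (mem_of_pow_mem hq (B := B) hu h0 hn (by rw [hn']; exact h)))
  rwa [Nat.card_zpowers, hord] at this

theorem cnt_orbit_mul {G : Type u} [Group G] [Fintype G] {Y : Type v} [Fintype Y] (f : G → Y → Y)
    (h1 : ∀ y, f 1 y = y) (hm : ∀ a b y, f (a * b) y = f a (f b y)) (S : Subgroup G) (y : Y) :
    cnt (fun z => ∃ g ∈ S, f g y = z) * cnt (fun g => g ∈ S ∧ f g y = y) = Nat.card S := by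
  rw [card_eq_cnt, ← mul_one (cnt (· ∈ S))]
  refine cnt_mul_eq (fun z g => f g y = z) ?_ fun g hg => cnt_eq_one (f g y) fun z =>
    ⟨fun h => h.2.symm, fun e => ⟨⟨g, hg, e.symm⟩, e.symm⟩⟩
  rintro _ ⟨a, ha, rfl⟩
  refine cnt_bij (fun g => a⁻¹ * g) (fun g hg => ⟨mul_mem (inv_mem ha) hg.1, ?_⟩)
    (fun _ _ _ _ e => mul_left_cancel e) fun g hg => ⟨a * g, ⟨mul_mem ha hg.1, ?_⟩, by simp⟩
  · rw [hm, hg.2, ← hm, inv_mul_cancel, h1]
  · rw [hm, hg.2]

end Cfsg.Agent.R3
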