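import Cfsg.Agent.Lib.Char.Central
import Cfsg.Agent.Lib.Char.Induced

/-!
# Frobenius' theorem: existence of the Frobenius kernel
-/

set_option autoImplicit false

open Cfsg
open scoped ComplexConjugate

namespace Cfsg.Agent.R3

open Cfsg.Agent.Char

universe u

variable {H : Type u} [Group H]

theorem indFun_restrict [Fintype H] (C : Subgroup H)
    (hTI : ∀ g, g ∉ C → ∀ x ∈ C, g⁻¹ * x * g ∈ C → x = 1) {θ : C → ℂ}
    (hθ : IsClassFunction C θ) (h1 : θ 1 = 0) (x : C) : indFun C θ x = θ x := by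
  classical
  have hC : (Nat.card C : ℂ) ≠ 0 := natCard_ne_zero
  have key : ∀ g : H, extendByZero C θ (g⁻¹ * x * g) = if g ∈ C then θ x else 0 := by
    intro g
    split_ifs with hg
    · rw [extendByZero_conj C hθ x ⟨g, hg⟩, extendByZero_coe]
    · by_cases hx : g⁻¹ * x * g ∈ C
      · have hx1 : (x : H) = 1 := hTI g hg x x.2 hx
        rw [hx1, mul_one, inv_mul_cancel]
        exact (extendByZero_coe C θ 1).trans h1
      · exact extendByZero_of_notMem C θ hx
  unfold indFun
  simp only [key]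
  rw [← Finset.sum_filter, Finset.sum_const, nsmul_eq_mul]
  have : ((Finset.univ.filter fun g : H => g ∈ C).card : ℂ) = Nat.card C := by
    rw [Nat.card_eq_fintype_card, Fintype.card_subtype]
  rw [this, ← mul_assoc, inv_mul_cancel₀ hC, one_mul]

theorem exists_ext_char [Fintype H] (C : Subgroup H)
    (hTI : ∀ g, g ∉ C → ∀ x ∈ C, g⁻¹ * x * g ∈ C → x = 1) {ψ : C → ℂ}
    (hψ : IsIrrCharacter C ψ) : ∃ χ : H → ℂ, IsCharacter H χ ∧ (∀ x : C, χ x = ψ x) ∧
      ∀ x : H, (∀ g : H, g⁻¹ * x * g ∉ C) → χ x = ψ 1 := by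
  classical
  obtain ⟨n, hn0, hn⟩ := exists_pos_degree hψ
  set θ : C → ℂ := ψ - (n : ℂ) • 1 with hθdef
  have hθg : IsGeneralizedCharacter C θ :=
    isGen_sub (isGen_of_irr hψ) (isGen_natCast_smul isGen_one n)
  have hθc : IsClassFunction C θ := isClass_of_isGen hθg
  have h1 : θ 1 = 0 := by simp [hθdef, hn]
  set χ : H → ℂ := indFun C θ + (n : ℂ) • 1 with hχdef
  have hχg : IsGeneralizedCharacter H χ :=
    isGen_add (isGen_indFun C hθg) (isGen_natCast_smul isGen_one n)
  have hres : ∀ x : C, χ x = ψ x := by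
    intro x
    simp only [hχdef, Pi.add_apply, indFun_restrict C hTI hθc h1 x]
    simp [hθdef]
  have hin : classInner χ χ = 1 := by
    have e1 : classInner (indFun C θ) χ = classInner θ ψ := by
      rw [inner_indFun_left C θ (isClass_of_isGen hχg)]
      congr 1
      funext x
      exact hres x
    have e2 : classInner (1 : H → ℂ) (indFun C θ) = classInner (1 : C → ℂ) θ := by
      rw [inner_indFun_right C θ isClass_one]
      rfl
    have e3 : classInner (1 : H → ℂ) χ = classInner (1 : C → ℂ) ψ := by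
      have : ψ = θ + (n : ℂ) • 1 := by simp [hθdef]
      rw [hχdef, Char.inner_add_right, e2, Char.inner_smul_right, inner_one_one]
      conv_rhs => rw [this, Char.inner_add_right, Char.inner_smul_right, inner_one_one]
    conv_lhs => rw [hχdef, Char.inner_add_left, Char.inner_smul_left, ← hχdef, e1, e3]
    rw [← Char.inner_smul_left, ← Char.inner_add_left]
    have : θ + (n : ℂ) • 1 = ψ := by simp [hθdef]
    rw [this, inner_irr_self hψ]
  have hirr : IsIrrCharacter H χ := by
    refine isIrr_of_isGen hχg hin ?_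
    have : χ 1 = n := (hres 1).trans hn
    rw [this]
    simp
  refine ⟨χ, isChar_of_irr hirr, hres, fun x hx => ?_⟩
  simp [hχdef, indFun_eq_zero C θ hx, hn]

/-- Frobenius' theorem. -/
theorem frobenius_kernel [Finite H] (C : Subgroup H)
    (hTI : ∀ g, g ∉ C → ∀ x ∈ C, g⁻¹ * x * g ∈ C → x = 1) {x y : H}
    (hx : ∀ g : H, g⁻¹ * x * g ∉ C) (hy : ∀ g : H, g⁻¹ * y * g ∉ C) :
    x * y = 1 ∨ ∀ g : H, g⁻¹ * (x * y) * g ∉ C := by
  classical
  have := Fintype.ofFinite H
  have := Fintype.ofFinite (IrrCharacter C)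
  by_contra hcon
  push Not at hcon
  obtain ⟨hne, g, hg⟩ := hcon
  have hval : ∀ ψ : IrrCharacter C, (ψ : C → ℂ) ⟨_, hg⟩ = (ψ : C → ℂ) 1 := by
    intro ψ
    obtain ⟨χ, hχ, hres, hout⟩ := exists_ext_char C hTI ψ.2
    have h1 : χ 1 = (ψ : C → ℂ) 1 := hres 1
    have hxk : x ∈ charKer hχ := (mem_charKer hχ).2 ((hout x hx).trans h1.symm)
    have hyk : y ∈ charKer hχ := (mem_charKer hχ).2 ((hout y hy).trans h1.symm)
    have h2 := (mem_charKer hχ).1 (mul_mem hxk hyk)
    rw [← hres, ← h1, ← h2]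
    exact class_conj' (isClass_of_isChar hχ) _ _
  have h3 := sum_degree_mul (G := C) ⟨_, hg⟩
  have h4 := sum_degree_mul (G := C) 1
  simp only [hval] at h3
  rw [h3, regChar_one, regChar_of_ne] at h4
  · exact natCard_ne_zero h4.symm
  · intro h
    apply hne
    have h5 : g⁻¹ * (x * y) * g = 1 := congrArg Subtype.val h
    have : x * y = g * (g⁻¹ * (x * y) * g) * g⁻¹ := by group
    rw [this, h5]
    group

end Cfsg.Agent.R3
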