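import Cfsg.Agent.Lib.R3.CaseA3
import Cfsg.Agent.Lib.FG.Basic

/-!
# Identification of the groups
-/

set_option autoImplicit false

namespace Cfsg.Agent.R3

open Subgroup MulAction

universe u v

section
variable {G : Type u} [Group G]

theorem index_core_dvd [Finite G] (H : Subgroup G) : H.normalCore.index ∣ H.index.factorial := by
  rw [normalCore_eq_ker, index_ker, index_eq_card, ← Nat.card_perm]
  exact card_subgroup_dvd_card (toPermHom G (G ⧸ H)).range

theorem fact_pow_mul {p n m : ℕ} (hp : p.Prime) (hm : ¬ p ∣ m) :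
    (p ^ n * m).factorization p = n := by
  rw [Nat.factorization_mul (pow_ne_zero _ hp.ne_zero) (show m ≠ 0 from fun e => hm (e ▸ dvd_zero p)),
    Nat.factorization_pow]
  simp [Nat.factorization_eq_zero_of_not_dvd hm, hp.factorization_self]

theorem a5_of_card [Finite G] (hG : Nat.card G = 60)
    (hN : ∀ N : Subgroup G, N.Normal → N ≠ ⊥ → 10 ∣ Nat.card N) :
    Nonempty (G ≃* alternatingGroup (Fin 5)) := by
  have hN' : ∀ N : Subgroup G, N.Normal → Nat.card N = 1 ∨ 10 ∣ Nat.card N := fun N h =>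
    or_iff_not_imp_left.2 fun e => hN N h fun e1 => e (by rw [e1, card_bot])
  obtain ⟨P⟩ : Nonempty (Sylow 2 G) := inferInstance
  have hP : Nat.card P = 4 := by
    rw [P.card_eq_multiplicity, hG, show 60 = 2 ^ 2 * 15 by norm_num,
      fact_pow_mul Nat.prime_two (by norm_num)]
    rfl
  have h1 := (P : Subgroup G).card_mul_index
  have h2 := (normalizer (P : Set G)).card_mul_index
  have h3 : (normalizer (P : Set G)).index ∣ (P : Subgroup G).index :=
    index_dvd_of_le (H := (P : Subgroup G)) (K := normalizer ((P : Subgroup G) : Set G))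
      le_normalizer
  rw [hG] at h1 h2
  rw [hP] at h1
  rw [show (P : Subgroup G).index = 15 by omega] at h3
  have h4 := Nat.le_of_dvd (by norm_num) h3
  have h5 : (normalizer (P : Set G)).index = 1 ∨ (normalizer (P : Set G)).index = 3 ∨
      (normalizer (P : Set G)).index = 5 ∨ (normalizer (P : Set G)).index = 15 := by
    generalize (normalizer (P : Set G)).index = n at h3 h4
    interval_cases n <;> simp_all
  rcases h5 with h5 | h5 | h5 | h5 <;> rw [h5] at h2
  · have := hN' P (normalizer_eq_top_iff.1 (index_eq_one.1 h5))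
    omega
  · exfalso
    set M := (normalizer (P : Set G)).normalCore
    have h6 : M.index ∣ _ := index_core_dvd (normalizer (P : Set G))
    have h7 := M.card_mul_index
    have h8 : Nat.card M ∣ 20 := by
      have := card_dvd_of_le (normalizer (P : Set G)).normalCore_le
      rwa [show Nat.card (normalizer (P : Set G)) = 20 by omega] at this
    rw [h5] at h6
    rw [hG] at h7
    have h9 := Nat.le_of_dvd (by norm_num) h6
    have h10 : 5 ∣ Nat.card M := by
      rcases hN' M inferInstance with e | e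
      · rw [e] at h7
        simp [Nat.factorial] at h9
        omega
      · exact Dvd.dvd.trans (by norm_num) e
    have : Fact (Nat.Prime 5) := ⟨by norm_num⟩
    obtain ⟨Q⟩ : Nonempty (Sylow 5 M) := inferInstance
    obtain ⟨i, hi⟩ := Q.isPGroup'.exists_card_eq
    have h11 := (Q : Subgroup M).card_mul_index
    have h12 := Q.not_dvd_index
    have h13 := card_sylow_modEq_one 5 M
    have h14 := Q.card_dvd_index
    have h15 : Nat.card Q ≠ 1 := fun e => Q.ne_bot_of_dvd_card h10 (card_eq_one.1 e)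
    have h16 : (Q : Subgroup M).index ∣ 4 :=
      Nat.Coprime.dvd_of_dvd_mul_left (k := _) (m := 5) ((Nat.Prime.coprime_iff_not_dvd
        (by norm_num)).2 h12).symm ((Dvd.intro_left _ h11).trans h8)
    have h17 := Nat.le_of_dvd (by norm_num) (h14.trans h16)
    have h18 : Nat.card (Sylow 5 M) = 1 := by
      rw [Nat.ModEq] at h13
      omega
    have : Subsingleton (Sylow 5 M) := (Nat.card_eq_one_iff_unique.1 h18).1
    have h19 := hN' ((Q : Subgroup M).map M.subtype) inferInstance
    rw [card_map_of_injective M.subtype_injective] at h19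
    have h20 := h19.resolve_left h15
    rw [hi] at h20
    exact absurd (Nat.prime_two.dvd_of_dvd_pow (Dvd.dvd.trans (by norm_num) h20)) (by norm_num)
  · set H := normalizer (P : Set G)
    have h6 : H.normalCore = ⊥ := by
      have := card_dvd_of_le H.normalCore_le
      rw [show Nat.card H = 12 by omega] at this
      refine card_eq_one.1 ((hN' _ inferInstance).resolve_right fun e => ?_)
      exact absurd (e.trans this) (by norm_num)
    rw [normalCore_eq_ker, MonoidHom.ker_eq_bot_iff] at h6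
    have e : G ⧸ H ≃ Fin 5 := Finite.equivFinOfCardEq h5
    let φ : G →* Equiv.Perm (Fin 5) := e.permCongrHom.toMonoidHom.comp (toPermHom G (G ⧸ H))
    have hφ : Function.Injective φ := e.permCongrHom.injective.comp h6
    have h7 := φ.range.card_mul_index
    rw [← Nat.card_congr (MonoidHom.ofInjective hφ).toEquiv, hG, Nat.card_perm] at h7
    simp only [Nat.card_eq_fintype_card, Fintype.card_fin, Nat.factorial] at h7
    rw [← Equiv.Perm.eq_alternatingGroup_of_index_eq_two (G := φ.range) (by omega)]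
    exact ⟨MonoidHom.ofInjective hφ⟩
  · exfalso
    have h6 : (P : Subgroup G) = normalizer (P : Set G) :=
      eq_of_le_of_card_ge le_normalizer (by omega)
    have h7 := IsPGroup.isMulCommutative_of_card_eq_prime_sq (p := 2) (G := P) hP
    have h8 : normalizer (P : Set G) ≤ centralizer (P : Set G) := by
      rw [← h6]
      exact le_centralizer (P : Subgroup G)
    have h9 := (MonoidHom.ker_transferSylow_isComplement' P h8).card_mul_card
    have := hN' (MonoidHom.transferSylow P h8).ker inferInstance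
    rw [hG, hP] at h9
    omega

variable {X : Type v} [MulAction G X] [FaithfulSMul G X] [IsPreprimitive G X]

theorem trans_of_normal {N : Subgroup G} [N.Normal] (hN : N ≠ ⊥) (x y : X) :
    ∃ n ∈ N, n • x = y := by
  obtain ⟨g, hg, hg1⟩ := N.bot_or_exists_ne_one.resolve_left hN
  have := IsQuasiPreprimitive.isPretransitive_of_normal (G := G) (X := X) (N := N) fun e =>
    hg1 (eq_of_smul_eq_smul (α := X) fun x => by
      have : x ∈ fixedPoints N X := e ▸ Set.mem_univ x
      rw [one_smul]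
      exact this ⟨g, hg⟩)
  obtain ⟨n, hn⟩ := exists_smul_eq N x y
  exact ⟨n, n.2, hn⟩

variable [Fintype G] [Fintype X]

theorem card_dvd_of_normal [Nonempty X] {N : Subgroup G} [N.Normal] (hN : N ≠ ⊥) :
    Fintype.card X ∣ Nat.card N := by
  obtain ⟨x⟩ := ‹Nonempty X›
  rw [← cnt_orbit_mul (fun (g : G) (y : X) => g • y) (one_smul G) mul_smul N x,
    cnt_congr (q := fun _ => True) fun y => iff_true_intro (trans_of_normal hN x y), cnt_true]
  exact dvd_mul_right _ _

theorem regular_of_pgroup {Q : Subgroup G} [hn : Q.Normal] (hQ : IsPGroup 2 Q) (hQ1 : Q ≠ ⊥) (a : X)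
    (hs : Group.IsSolvable (stabilizer G a)) : Group.IsSolvable G ∧ ∃ N : Subgroup G, N.Normal ∧
      Nat.card N = Fintype.card X ∧ ∀ x y : X, ∃! n : N, (n : G) • x = y := by
  have hN : (omZ 2 Q).Normal := ⟨fun e he g => ⟨hn.conj_mem e he.1 g, by
    rw [conj_pow, he.2.1]
    simp, fun y hy => by
    have h1 := he.2.2 _ (hn.conj_mem' y hy g)
    calc g * e * g⁻¹ * y = g * (e * (g⁻¹ * y * g)) * g⁻¹ := by group
      _ = _ := by rw [h1]; group⟩⟩
  have htr := trans_of_normal (X := X) (omZ_ne_bot hQ hQ1)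
  have hu : ∀ (x : X) n n', n ∈ omZ 2 Q → n' ∈ omZ 2 Q → n • x = n' • x → n = n' :=
    fun x n n' h1 h2 e => eq_of_smul_eq_smul (α := X) fun y => by
      obtain ⟨m, hm, rfl⟩ := htr x y
      rw [← mul_smul, h1.2.2 m hm.1, mul_smul, e, ← mul_smul, ← h2.2.2 m hm.1, mul_smul]
  refine ⟨?_, omZ 2 Q, hN, ?_, fun x y => ?_⟩
  · refine (Group.isSolvable_iff_subgroup_quotient (omZ 2 Q)).2
      ⟨Group.isSolvable_of_comm fun x y => Subtype.ext (x.2.2.2 y y.2.1), ?_⟩
    refine Group.isSolvable_of_surjective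
      (f := (QuotientGroup.mk' (omZ 2 Q)).comp (stabilizer G a).subtype) fun q => ?_
    obtain ⟨g, rfl⟩ := QuotientGroup.mk_surjective q
    obtain ⟨n, hn, e⟩ := htr a (g⁻¹ • a)
    refine ⟨⟨g * n, ?_⟩, QuotientGroup.mk_mul_of_mem g hn⟩
    rw [mem_stabilizer_iff, mul_smul, e, smul_inv_smul]
  · rw [card_eq_cnt, ← cnt_true]
    exact cnt_bij (fun n => n • a) (fun _ _ => trivial) (hu a) fun y _ => htr a y
  · obtain ⟨n, hn, e⟩ := htr x y
    exact ⟨⟨n, hn⟩, e, fun n' e' => Subtype.ext (hu x _ _ n'.2 hn (e'.trans e.symm))⟩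

end

variable {G : Type u} [Group G] [Fintype G] {X : Type v} [MulAction G X] [Fintype X]
  {adj : X → X → Prop} {k l c d lam mu : ℕ}

namespace PA

variable (h : PA G adj k l c d lam mu)
include h

theorem solvable_stab (hc : c = 4) (a : X) : Group.IsSolvable (stabilizer G a) := by
  have hn : ((h.ker a).subgroupOf (stabilizer G a)).Normal :=
    ⟨fun x hx g => h.conj_mem' hx g.2⟩
  refine (Group.isSolvable_iff_subgroup_quotient ((h.ker a).subgroupOf (stabilizer G a))).2
    ⟨Group.isSolvable_of_comm fun x y => Subtype.ext (Subtype.ext (h.ker_comm x.2 y.2)), ?_⟩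
  have h1 := ((h.ker a).subgroupOf (stabilizer G a)).card_mul_index
  rw [Nat.card_congr (subgroupOfEquivOfLe (H := h.ker a) (K := stabilizer G a)
    (fun g hg => hg.1)).toEquiv, h.card_ker, h.hst] at h1
  have h2 := IsPGroup.isMulCommutative_of_card_eq_prime_sq (p := 2)
    (G := stabilizer G a ⧸ (h.ker a).subgroupOf (stabilizer G a))
    ((Nat.eq_of_mul_eq_mul_left h.k_pos h1).trans hc)
  exact Group.isSolvable_of_comm h2.is_comm.comm

theorem ker_not_fix {a y : X} (hy : y ≠ a) : ∃ x ∈ h.ker a, x • y ≠ y := by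
  obtain ⟨x0, hx0, hx1⟩ := h.exists_ker_ne_one a
  by_contra hcon
  push Not at hcon
  have hf := h.not_adj_of_ker hx0 hx1 hx0.1 (hcon x0 hx0)
  have key : ∀ q, a ≠ q → ¬ adj a q → x0 • q = q := fun q h1 h2 => by
    obtain ⟨g, hg, rfl⟩ := h.tr2 hy.symm hf h1 h2
    have := hcon _ (h.conj_mem' hx0 (g := g⁻¹) (inv_smul_eq_iff.2 hg.symm))
    rwa [mul_smul, mul_smul, inv_inv, inv_smul_eq_iff] at this
  obtain ⟨q, q', h1, h2, h3, h4, h5⟩ := h.exists_adj_far a
  exact h.not_adj_of_ker hx0 hx1 (key q h1 h2) (key q' h3 h4) h5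

theorem core_ne_bot (hk : k = 9) (hl : l = 6) (hc : c = 4) (S : Sylow 2 G) :
    (S : Subgroup G).normalCore ≠ ⊥ := by
  have hG : Nat.card G = 576 := by rw [h.card_G, h.card_X, hk, hl, hc]
  obtain ⟨a, p, x0, hx0, hp, hpa, hx1⟩ : ∃ a p x0, x0 ∈ h.ker a ∧ x0 • p = p ∧ p ≠ a ∧ x0 ≠ 1 := by
    by_contra hcon
    push Not at hcon
    obtain ⟨r, hr, -⟩ := h.exists_r hcon
    rw [hk, hl] at hr
    omega
  have : Fact (Nat.Prime 3) := ⟨by norm_num⟩
  have hK := (h.card_ker a).trans hk
  let P : Sylow 3 G := Sylow.ofCard (h.ker a) (by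
    rw [hK, hG, show 576 = 3 ^ 2 * 64 by norm_num,
      fact_pow_mul Nat.prime_three (by norm_num)]
    rfl)
  have hP : (P : Subgroup G) = h.ker a := rfl
  have hPM : (P : Subgroup G) ≤ centralizer {x0} := fun g hg =>
    mem_centralizer_singleton_iff.2 (h.ker_comm hg hx0)
  obtain ⟨L, hLn, hL, hL3⟩ := FG.exists_normal_compl P (centralizer {x0}) hPM fun g hg => by
    have h1 : g • a = a := by
      by_contra hne
      obtain ⟨x, hx, e⟩ := h.ker_not_fix hne
      refine e ?_
      rw [← mul_smul, show x * g = g * (g⁻¹ * x * g) by group, mul_smul,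
        ((mem_normalizer_iff''.1 hg.2 x).1 hx).1]
    exact fun y hy => h.ker_comm hy
      (h.mem_ker_of_comm hx0 hx1 h1 (mem_centralizer_singleton_iff.1 hg.1))
  rw [show Nat.card P = 9 from hK] at hL
  have hL64 : Nat.card L ∣ 2 ^ 6 := by
    have := card_subgroup_dvd_card (centralizer {x0})
    rw [hG, ← hL] at this
    exact Nat.dvd_of_mul_dvd_mul_right (show 0 < 9 by norm_num) this
  obtain ⟨i, -, hi⟩ := (Nat.dvd_prime_pow Nat.prime_two).1 hL64
  have hV : IsPGroup 2 (L.map (centralizer {x0}).subtype) := (IsPGroup.of_card hi).map _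
  obtain ⟨S', hS'⟩ := hV.exists_le_sylow
  have hS6 : Nat.card S' = 64 := by
    rw [S'.card_eq_multiplicity, hG, show 576 = 2 ^ 6 * 9 by norm_num,
      fact_pow_mul Nat.prime_two (by norm_num)]
    rfl
  have hcompl : IsComplement' (S' : Subgroup G) (h.ker a) :=
    isComplement'_of_coprime (by rw [hS6, hK, hG]) (by rw [hS6, hK]; norm_num)
  have h1 : L.map (centralizer {x0}).subtype ≤ (S' : Subgroup G).normalCore := by
    rintro _ ⟨y, hy, rfl⟩ g
    obtain ⟨⟨s, t⟩, rfl⟩ := hcompl.2 g
    have h2 : (t : G) * y * (t : G)⁻¹ ∈ (S' : Subgroup G) :=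
      hS' ⟨_, hLn.conj_mem y hy ⟨t, hPM t.2⟩, rfl⟩
    have h3 := mul_mem (mul_mem s.2 h2) (inv_mem s.2)
    simpa [mul_assoc] using h3
  have h2 : (S' : Subgroup G).normalCore ≤ S := (S'.isPGroup'.to_le (normalCore_le _)).le_sylow_of_normal S
  intro hb
  have h3 : L.map (centralizer {x0}).subtype = ⊥ :=
    eq_bot_iff.2 (h1.trans (hb ▸ normal_le_normalCore.2 h2))
  rw [map_eq_bot_iff_of_injective _ (centralizer {x0}).subtype_injective] at h3
  rw [h3, card_bot, one_mul] at hL
  have h4 : h.ker a = centralizer {x0} := eq_of_le_of_card_ge hPM (by rw [hK, hL])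
  obtain ⟨x, hx, e⟩ := h.ker_not_fix hpa.symm
  refine e (h.ker_fix ?_)
  rw [h4]
  exact mem_centralizer_singleton_iff.2 (h.ker_comm hx (h.ker_of_fix hx0 hp))

theorem final [FaithfulSMul G X] [IsPreprimitive G X] :
    (Nonempty (G ≃* alternatingGroup (Fin 5)) ∧ Fintype.card X = 10) ∨
    (Group.IsSolvable G ∧ ∃ N : Subgroup G, N.Normal ∧ Nat.card N = 16 ∧
      ∀ x y : X, ∃! n : N, (n : G) • x = y) := by
  have := h.nonempty
  obtain ⟨a⟩ := h.nonempty
  have hX := h.card_X
  have hG := h.card_G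
  obtain ⟨S⟩ : Nonempty (Sylow 2 G) := inferInstance
  have key : c = 4 → Fintype.card X = 16 → (S : Subgroup G).normalCore ≠ ⊥ →
      (Group.IsSolvable G ∧ ∃ N : Subgroup G, N.Normal ∧ Nat.card N = 16 ∧
      ∀ x y : X, ∃! n : N, (n : G) • x = y) := fun h1 h2 h3 =>
    h2 ▸ regular_of_pgroup (S.isPGroup'.to_le (normalCore_le _)) h3 a (h.solvable_stab h1 a)
  rcases h.params with ⟨rfl, rfl, rfl⟩ | ⟨rfl, rfl, rfl⟩ | ⟨rfl, rfl, rfl⟩
  · rw [hX] at hG
    exact Or.inl ⟨a5_of_card hG fun N _ hN =>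
      hX.symm.dvd.trans (card_dvd_of_normal (X := X) hN), hX⟩
  · refine Or.inr (key rfl hX fun e => ?_)
    rw [hX] at hG
    have h1 := index_core_dvd (S : Subgroup G)
    have h2 := (S : Subgroup G).card_mul_index
    have h3 : Nat.card S = 64 := by
      rw [S.card_eq_multiplicity, hG, show (1 + 5 + 10) * (5 * 4) = 2 ^ 6 * 5 by norm_num,
        fact_pow_mul Nat.prime_two (by norm_num)]
      rfl
    rw [h3, hG] at h2
    rw [e, index_bot, hG, show (S : Subgroup G).index = 5 by omega] at h1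
    exact absurd h1 (by decide)
  · exact Or.inr (key rfl hX (h.core_ne_bot rfl rfl rfl S))

end PA

end Cfsg.Agent.R3
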