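import Cfsg.Agent.Lib.R3.FPF
import Cfsg.Agent.Lib.R3.Frob
import Cfsg.Agent.Lib.R3.Cnt

/-!
# Rank three groups with a Frobenius constituent: the setting
-/

set_option autoImplicit false

namespace Cfsg.Agent.R3

open Subgroup MulAction

universe u v

variable {G : Type u} [Group G] {X : Type v} [MulAction G X]

/-- The geometric setting. -/
structure RK (G : Type u) [Group G] {X : Type v} [MulAction G X] (adj : X → X → Prop) : Prop where
  symm : ∀ {x y}, adj x y → adj y x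
  irr : ∀ x, ¬ adj x x
  smul : ∀ (g : G) {x y}, adj x y → adj (g • x) (g • y)
  tr0 : ∀ x x' : X, ∃ g : G, g • x = x'
  tr1 : ∀ {x y x' y'}, adj x y → adj x' y' → ∃ g : G, g • x = x' ∧ g • y = y'
  tr2 : ∀ {x y x' y'}, x ≠ y → ¬ adj x y → x' ≠ y' → ¬ adj x' y' →
    ∃ g : G, g • x = x' ∧ g • y = y'
  semi : ∀ {g : G} {x y z}, adj x y → adj x z → y ≠ z → g • x = x → g • y = y → g • z = z → g = 1
  nontriv : ∃ (g : G) (x y : X), g ≠ 1 ∧ adj x y ∧ g • x = x ∧ g • y = y
  exfar : ∃ x y, x ≠ y ∧ ¬ adj x y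
  prim : ∀ {x y}, x ≠ y → ¬ adj x y → ∃ z, adj y z ∧ ¬ adj x z

/-- two-point stabilizer -/
def st2 (G : Type u) [Group G] {X : Type v} [MulAction G X] (x y : X) : Subgroup G :=
  stabilizer G x ⊓ stabilizer G y

theorem mem_st2 {x y : X} {g : G} : g ∈ st2 G x y ↔ g • x = x ∧ g • y = y := Iff.rfl

theorem conj_smul_smul (g a : G) (x : X) : (g * a * g⁻¹) • g • x = g • a • x := by
  simp [mul_smul]

theorem card_st2_smul (g : G) (x y : X) :
    Nat.card (st2 G (g • x) (g • y)) = Nat.card (st2 G x y) := by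
  rw [← card_map_of_injective (K := st2 G x y) (f := (MulAut.conj g).toMonoidHom)
    (MulAut.conj g).injective]
  congr 2
  ext a
  constructor
  · intro ha
    refine ⟨g⁻¹ * a * g, ⟨?_, ?_⟩, by simp [mul_assoc]⟩
    · change (g⁻¹ * a * g) • x = x
      rw [mul_smul, mul_smul, ha.1, inv_smul_smul]
    · change (g⁻¹ * a * g) • y = y
      rw [mul_smul, mul_smul, ha.2, inv_smul_smul]
  · rintro ⟨b, hb, rfl⟩
    exact ⟨(conj_smul_smul g b x).trans (by rw [hb.1]), (conj_smul_smul g b y).trans (by rw [hb.2])⟩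

variable [Fintype X]

theorem card_stab_eq [Fintype G] (x y : X) (p : X → Prop)
    (hT : ∀ z, p z ↔ ∃ g : G, g • x = x ∧ g • y = z) :
    Nat.card (stabilizer G x) = cnt p * Nat.card (st2 G x y) := by
  rw [← cnt_orbit_mul (fun (g : G) (y : X) => g • y) (one_smul G) mul_smul (stabilizer G x) y,
    cnt_congr hT, card_eq_cnt]
  rfl

/-- The setting together with its numerical parameters. -/
structure Par (G : Type u) [Group G] {X : Type v} [MulAction G X] [Fintype X] (adj : X → X → Prop)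
    (k l c d lam mu : ℕ) : Prop extends RK G adj where
  hk : ∀ x, cnt (fun z => adj x z) = k
  hl : ∀ x, cnt (fun z => z ≠ x ∧ ¬ adj x z) = l
  hc : ∀ {x y}, adj x y → Nat.card (st2 G x y) = c
  hd : ∀ {x y}, x ≠ y → ¬ adj x y → Nat.card (st2 G x y) = d
  hlam : ∀ {x y}, adj x y → cnt (fun z => adj x z ∧ adj y z) = lam
  hmu : ∀ {x y}, x ≠ y → ¬ adj x y → cnt (fun z => adj x z ∧ adj y z) = mu
  hst : ∀ x : X, Nat.card (stabilizer G x) = k * c
  hld : l * d = k * c

variable {adj : X → X → Prop}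

omit [Fintype X] in
theorem RK.smul_iff (h : RK G adj) (g : G) {x y : X} : adj (g • x) (g • y) ↔ adj x y :=
  ⟨fun h1 => by simpa using h.smul g⁻¹ h1, h.smul g⟩

omit [Fintype X] in
theorem RK.ne (h : RK G adj) {x y : X} (h1 : adj x y) : x ≠ y := fun e => h.irr x (e ▸ h1)

theorem RK.exists_par [Fintype G] (h : RK G adj) : ∃ k l c d lam mu, Par G adj k l c d lam mu := by
  obtain ⟨-, a, b, -, hab, -⟩ := h.nontriv
  obtain ⟨a', p', hap', hap''⟩ := h.exfar
  obtain ⟨g0, rfl⟩ := h.tr0 a' a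
  set p := g0 • p'
  set a := g0 • a'
  have hap : a ≠ p := fun e => hap' (MulAction.injective g0 e)
  have hnap : ¬ adj a p := fun e => hap'' ((h.smul_iff g0).1 e)
  have e1 := card_stab_eq (G := G) a b (fun z => adj a z) fun z => by
    exact ⟨fun h1 => h.tr1 hab h1, fun ⟨g, h1, h2⟩ => by simpa [h1, h2] using h.smul g hab⟩
  have e2 := card_stab_eq (G := G) a p (fun z => z ≠ a ∧ ¬ adj a z) fun z => by
    refine ⟨fun h1 => h.tr2 hap hnap h1.1.symm h1.2, fun ⟨g, h1, h2⟩ => ⟨fun e => hap ?_, fun e => hnap ?_⟩⟩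
    · exact MulAction.injective g (h1.trans (e.symm.trans h2.symm))
    · rwa [← h1, ← h2, h.smul_iff] at e
  refine ⟨_, _, _, _, cnt (fun z => adj a z ∧ adj b z),
    cnt (fun z => adj a z ∧ adj p z), h, fun x => ?_, fun x => ?_, fun h1 => ?_,
    fun h1 h2 => ?_, fun h1 => ?_, fun h1 h2 => ?_, fun x => ?_, e2.symm.trans e1⟩
  · obtain ⟨g, rfl⟩ := h.tr0 a x
    exact (cnt_smul g fun z => (h.smul_iff g).symm).symm
  · obtain ⟨g, rfl⟩ := h.tr0 a x
    exact (cnt_smul g fun z => by rw [h.smul_iff, Ne, Ne, smul_left_cancel_iff]).symm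
  · obtain ⟨g, rfl, rfl⟩ := h.tr1 hab h1
    exact card_st2_smul g a b
  · obtain ⟨g, rfl, rfl⟩ := h.tr2 hap hnap h1 h2
    exact card_st2_smul g a p
  · obtain ⟨g, rfl, rfl⟩ := h.tr1 hab h1
    exact (cnt_smul g fun z => by rw [h.smul_iff, h.smul_iff]).symm
  · obtain ⟨g, rfl, rfl⟩ := h.tr2 hap hnap h1 h2
    exact (cnt_smul g fun z => by rw [h.smul_iff, h.smul_iff]).symm
  · obtain ⟨g, rfl⟩ := h.tr0 a x
    rw [← e1, stabilizer_smul_eq_stabilizer_map_conj, card_map_of_injective (MulAut.conj g).injective]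

variable [Finite G]

omit [Fintype X] in
theorem RK.ker_mul (h : RK G adj) {x : X} {a b : G} (ha : a • x = x) (hb : b • x = x)
    (ha' : ∀ y, adj x y → a • y ≠ y) (hb' : ∀ y, adj x y → b • y ≠ y) :
    a * b = 1 ∨ ∀ y, adj x y → (a * b) • y ≠ y := by
  by_cases hy : ∃ y, adj x y
  swap
  · exact Or.inr fun y h1 => absurd ⟨y, h1⟩ hy
  obtain ⟨y, hy⟩ := hy
  have key : ∀ a : stabilizer G x, (∀ y, adj x y → (a : G) • y ≠ y) ↔
      ∀ g : stabilizer G x, g⁻¹ * a * g ∉ (stabilizer G y).subgroupOf (stabilizer G x) := by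
    intro a
    constructor
    · intro h1 g hg
      refine h1 ((g : G) • y) (by simpa [show (g : G) • x = x from g.2] using h.smul g hy) ?_
      have : ((g : G)⁻¹ * a * g) • y = y := hg
      rwa [mul_smul, mul_smul, inv_smul_eq_iff] at this
    · intro h1 z hz e
      obtain ⟨g, hg, rfl⟩ := h.tr1 hy hz
      refine h1 ⟨g, hg⟩ ?_
      change (g⁻¹ * a * g) • y = y
      rw [mul_smul, mul_smul, e, inv_smul_smul]
  rcases frobenius_kernel ((stabilizer G y).subgroupOf (stabilizer G x)) (x := ⟨a, ha⟩)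
    (y := ⟨b, hb⟩) (fun g hg c hc hc' => by
      have h1 : ((g : G)⁻¹ * c * g) • y = y := hc'
      rw [mul_smul, mul_smul, inv_smul_eq_iff] at h1
      exact Subtype.ext (h.semi hy (by simpa [show (g : G) • x = x from g.2] using h.smul g hy)
        (fun e => hg e.symm) c.2 hc h1)) ((key _).1 ha') ((key _).1 hb') with h1 | h1
  · exact Or.inl (congrArg Subtype.val h1)
  · exact Or.inr ((key _).2 h1)

/-- The Frobenius kernel of a point stabilizer. -/
def RK.ker (h : RK G adj) (x : X) : Subgroup G where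
  carrier := {g | g • x = x ∧ (g = 1 ∨ ∀ y, adj x y → g • y ≠ y)}
  one_mem' := ⟨one_smul _ _, Or.inl rfl⟩
  mul_mem' := by
    rintro a b ⟨ha, rfl | ha'⟩ ⟨hb, rfl | hb'⟩
    · exact ⟨by simp, Or.inl (by simp)⟩
    · exact ⟨by simpa, Or.inr (by simpa)⟩
    · exact ⟨by simpa, Or.inr (by simpa)⟩
    · exact ⟨by rw [mul_smul, hb, ha], h.ker_mul ha hb ha' hb'⟩
  inv_mem' := by
    rintro a ⟨ha, rfl | ha'⟩
    · exact ⟨by simp, Or.inl (by simp)⟩
    · exact ⟨inv_smul_eq_iff.2 ha.symm, Or.inr fun y hy e => ha' y hy (inv_smul_eq_iff.1 e).symm⟩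

omit [Fintype X]

theorem RK.ker_fix (h : RK G adj) {x : X} {g : G} (hg : g ∈ h.ker x) : g • x = x := hg.1

theorem RK.ker_eq_one (h : RK G adj) {x y : X} {g : G} (hg : g ∈ h.ker x) (hy : adj x y)
    (e : g • y = y) : g = 1 := hg.2.resolve_right fun h1 => h1 y hy e

theorem RK.exists_fix (h : RK G adj) {x : X} {g : G} (hx : g • x = x) (hg : g ∉ h.ker x) :
    ∃ y, adj x y ∧ g • y = y := by
  by_contra hcon
  push Not at hcon
  exact hg ⟨hx, Or.inr hcon⟩

theorem RK.conj_mem (h : RK G adj) {x : X} {a : G} (ha : a ∈ h.ker x) (g : G) :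
    g * a * g⁻¹ ∈ h.ker (g • x) := by
  refine ⟨by rw [conj_smul_smul, ha.1], ha.2.imp (fun e => by simp [e]) fun h1 y hy e => ?_⟩
  refine h1 (g⁻¹ • y) (by simpa using h.smul g⁻¹ hy) ?_
  rwa [mul_smul, mul_smul, smul_eq_iff_eq_inv_smul] at e

theorem RK.conj_mem' (h : RK G adj) {x : X} {a g : G} (ha : a ∈ h.ker x) (hg : g • x = x) :
    g * a * g⁻¹ ∈ h.ker x := by
  simpa only [hg] using h.conj_mem ha g

theorem RK.mem_ker_of_comm (h : RK G adj) {x : X} {a g : G} (ha : a ∈ h.ker x) (ha1 : a ≠ 1)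
    (hg : g • x = x) (hc : g * a = a * g) : g ∈ h.ker x := by
  by_contra hcon
  obtain ⟨y, hy, e⟩ := h.exists_fix hg hcon
  refine hcon (h.semi hy (z := a • y) (by simpa [ha.1] using h.smul a hy)
    (fun e1 => ha1 (h.ker_eq_one ha hy e1.symm)) hg e ?_ ▸ one_mem _)
  rw [← mul_smul, hc, mul_smul, e]

end Cfsg.Agent.R3
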